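import Groth.Agent.FRpushLib.CohFinal

/-!
# A limit of levels as the completion of a finite module
-/

set_option autoImplicit false
set_option linter.style.haveILetI false
set_option linter.unusedSectionVars false
set_option maxHeartbeats 800000
set_option synthInstance.maxHeartbeats 80000

universe u

open CategoryTheory CategoryTheory.Limits AlgebraicGeometry TopologicalSpace Opposite FSch
open FModLib (MSec RSec mres rres oK lc LocPres)
open FRpushLib (LSec prT trT)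

noncomputable section

namespace FRpushCmplLib

theorem exists_coeff {R H ι : Type*} [CommRing R] [AddCommGroup H] [Module R H] [Fintype ι] (J : Ideal R) (e : ι → H)
    (he : ∀ m : H, ∃ a : ι → R, ∑ i, a i • e i = m) {x : H} (hx : x ∈ (J • ⊤ : Submodule R H)) :
    ∃ b : ι → R, (∀ i, b i ∈ J) ∧ ∑ i, b i • e i = x := by
  refine Submodule.smul_induction_on (p := fun x => ∃ b : ι → R, (∀ i, b i ∈ J) ∧ ∑ i, b i • e i = x)
    hx (fun c hc m _ => ?_) ?_
  · obtain ⟨a, ha⟩ := he m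
    exact ⟨fun i => c * a i, fun i => J.mul_mem_right _ hc, (Finset.sum_congr rfl fun i _ => mul_smul c (a i) (e i)).trans
      (Finset.smul_sum.symm.trans (congrArg (fun z => c • z) ha))⟩
  · rintro x y ⟨b, hb, rfl⟩ ⟨b', hb', rfl⟩
    exact ⟨b + b', fun i => add_mem (hb i) (hb' i),
      (Finset.sum_congr rfl fun i _ => add_smul (b i) (b' i) (e i)).trans Finset.sum_add_distrib⟩

variable {𝔜 : Sys.{u}} (h𝔜 : 𝔜.IsLocNoethFormal) {G : ℕ → ModF 𝔜 h𝔜.1} (t : ∀ k, G (k + 1) ⟶ G k)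
  (hlev : ∀ k, ∃ N : (𝔜.X k).Modules, Coh.IsQCoh N ∧ Nonempty (G k ≅ (levelMor 𝔜 h𝔜.1 k).push.obj N))
  {W : (𝔜.X 0).Opens} (hW : IsAffineOpen W)

include hlev hW in
/-- **A limit of levels approximated by a finite module is presented as its completion.** -/
theorem locPres_completion (hst : FModLib.Stable (M := fun k => MSec (G k) W) (trT h𝔜 t W))
    {I' : Ideal (RSec (𝔜.Osh h𝔜.1) W)} (hI' : ∀ k a, oK h𝔜.1 k W a = 0 ↔ a ∈ I' ^ (k + 1))
    {d : ℕ} (hd : ∀ k (x : LSec h𝔜 t W), prT h𝔜 t (k + d) W x = 0 →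
      x ∈ (I' ^ (k + 1) • ⊤ : Submodule (RSec (𝔜.Osh h𝔜.1) W) (LSec h𝔜 t W)))
    {R : Type u} [CommRing R] (I : Ideal R) (c : R →+* RSec (𝔜.Osh h𝔜.1) W)
    (hcs : ∀ k (a : RSec (𝔜.Osh h𝔜.1) W), ∃ b, oK h𝔜.1 k W (c b) = oK h𝔜.1 k W a)
    (hck : ∀ k b, oK h𝔜.1 k W (c b) = 0 ↔ b ∈ I ^ (k + 1))
    {H : Type u} [AddCommGroup H] [Module R H] (h : H →+ LSec h𝔜 t W)
    (hh : ∀ (b : R) (x : H), h (b • x) = c b • h x)
    {c₀ : ℕ} (hker : ∀ k x, prT h𝔜 t k W (h x) = 0 → x ∈ (I ^ (k - c₀) • ⊤ : Submodule R H))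
    (hsurj : ∀ k m, ∃ x, prT h𝔜 t k W (h x) = prT h𝔜 t k W m)
    {ι κ : Type u} [Fintype ι] [Fintype κ] (e : ι → H) (he : ∀ m : H, ∃ a : ι → R, ∑ i, a i • e i = m)
    (r : κ → ι → R) (hrel : ∀ j, ∑ i, r j i • e i = 0)
    (hr : ∀ a : ι → R, ∑ i, a i • e i = 0 → ∃ w : κ → R, ∀ i, a i = ∑ j, w j * r j i) :
    LocPres (limit (Functor.ofOpSequence (X := G) t)) W (fun i => h (e i)) (fun j i => c (r j i)) := by
  classical
  have hlc : ∀ a : ι → R, lc _ le_rfl (fun i => h (e i)) (fun i => c (a i)) = h (∑ i, a i • e i) := fun a => by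
    rw [map_sum]
    exact Finset.sum_congr rfl fun i _ =>
      (congrArg (fun z => c (a i) • z) (FRpushLib.mres_rfl _ _)).trans (hh (a i) (e i)).symm
  have hcongr : ∀ k (a a' : ι → RSec (𝔜.Osh h𝔜.1) W), (∀ i, oK h𝔜.1 k W (a i) = oK h𝔜.1 k W (a' i)) →
      prT h𝔜 t k W (lc _ le_rfl (fun i => h (e i)) a) = prT h𝔜 t k W (lc _ le_rfl (fun i => h (e i)) a') :=
    fun k a a' haa => (FRpushLib.prT_lc h𝔜 t k le_rfl _ a).trans
      ((FRpushLib.lc_congr_level h𝔜 hlev k _ _ haa).trans (FRpushLib.prT_lc h𝔜 t k le_rfl _ a').symm)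
  refine FRpushLib.locPres_lim h𝔜 t hlev hW hst hI' hd _ (fun m => ?_) _ (fun j => ?_) (fun a ha => ?_)
  · choose x hx using fun k => hsurj k m
    have step : ∀ k (a : ι → R), ∑ i, a i • e i = x k →
        ∃ a' : ι → R, ∑ i, a' i • e i = x (k + 1) ∧ ∀ i, a' i - a i ∈ I ^ (k - c₀) := fun k a ha => by
      have h0 : prT h𝔜 t k W (h (x (k + 1) - x k)) = 0 := by
        rw [map_sub, map_sub, FRpushLib.prT_down h𝔜 t (h (x (k + 1))) m k 1 (hx (k + 1)), hx k, sub_self]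
      obtain ⟨b, hb, hbe⟩ := exists_coeff _ e he (hker k _ h0)
      refine ⟨a + b, ?_, fun i => by rw [Pi.add_apply, add_sub_cancel_left]; exact hb i⟩
      exact ((Finset.sum_congr rfl fun i _ => add_smul (a i) (b i) (e i)).trans Finset.sum_add_distrib).trans
        ((congrArg₂ (· + ·) ha hbe).trans (add_sub_cancel (x k) (x (k + 1))))
    choose nxt hn1 hn2 using step
    obtain ⟨a0, ha0⟩ := he (x 0)
    let b : ∀ k, {a : ι → R // ∑ i, a i • e i = x k} := fun k =>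
      Nat.rec ⟨a0, ha0⟩ (fun k bk => ⟨nxt k bk.1 bk.2, hn1 k bk.1 bk.2⟩) k
    have hb : ∀ k i, (b (k + 1)).1 i - (b k).1 i ∈ I ^ (k - c₀) := fun k i => hn2 k (b k).1 (b k).2 i
    have hcompat : ∀ K i, oK h𝔜.1 K W (c ((b (K + 1 + c₀ + 1)).1 i)) = oK h𝔜.1 K W (c ((b (K + c₀ + 1)).1 i)) := by
      intro K i
      have h1 : oK h𝔜.1 K W (c ((b (K + c₀ + 1 + 1)).1 i - (b (K + c₀ + 1)).1 i)) = 0 :=
        (hck K _).2 (Ideal.pow_le_pow_right (by omega) (hb (K + c₀ + 1) i))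
      rw [show K + 1 + c₀ + 1 = K + c₀ + 1 + 1 by omega]
      refine sub_eq_zero.1 (Eq.trans ?_ h1)
      exact ((congrArg (oK h𝔜.1 K W) (map_sub c _ _)).trans
        (map_sub ((𝔜.OshProj h𝔜.1 K).hom.app (op W)).hom _ _)).symm
    choose a ha using fun i => (FModLib.toLim_bijective h𝔜.1 W hW).2
      ⟨fun K => oK h𝔜.1 K W (c ((b (K + c₀ + 1)).1 i)), fun K => (FModLib.oProj_succ h𝔜.1 W K _).trans (hcompat K i)⟩
    refine ⟨a, FRpushLib.towSec_ext G t fun K => ?_⟩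
    refine (hcongr K a (fun i => c ((b (K + c₀ + 1)).1 i)) fun i =>
      congrArg (fun z : (FModLib.secSys h𝔜.1 W hW).lim => z.1 K) (ha i)).trans ?_
    refine (congrArg (prT h𝔜 t K W) ((hlc _).trans (congrArg h (b (K + c₀ + 1)).2))).trans ?_
    refine FRpushLib.prT_down h𝔜 t _ m K (c₀ + 1) ?_
    exact hx (K + c₀ + 1)
  · exact (hlc (r j)).trans ((congrArg h (hrel j)).trans (map_zero h))
  · refine FModLib.exists_rel_of_levels h𝔜 hW (fun j i => c (r j i)) a fun K => ?_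
    choose a' ha' using fun i => hcs (K + c₀ + 1) (a i)
    have h0 : prT h𝔜 t (K + c₀ + 1) W (h (∑ i, a' i • e i)) = 0 := by
      rw [← hlc]
      exact (hcongr _ _ a ha').trans ((congrArg (prT h𝔜 t _ W) ha).trans (map_zero _))
    obtain ⟨b, hb, hbe⟩ := exists_coeff _ e he (hker _ _ h0)
    obtain ⟨w, hw⟩ := hr (a' - b) ((Finset.sum_congr rfl fun i _ => sub_smul (a' i) (b i) (e i)).trans
      ((Finset.sum_sub_distrib _ _).trans (sub_eq_zero.2 hbe.symm)))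
    refine ⟨fun j => c (w j), fun i => ?_⟩
    have h1 : oK h𝔜.1 K W (c (b i)) = 0 := (hck K _).2 (Ideal.pow_le_pow_right (by omega) (hb i))
    have h2 : oK h𝔜.1 K W (a i) = oK h𝔜.1 K W (c (a' i)) := by
      refine (FRpushLib.oK_down h𝔜 (c (a' i)) (a i) K (c₀ + 1) ?_).symm
      exact ha' i
    have h3 : ∑ j, c (w j) * c (r j i) = c (a' i) - c (b i) := by
      rw [← map_sub, show a' i - b i = ∑ j, w j * r j i from hw i, map_sum]
      simp only [map_mul]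
    rw [h3, h2]
    have h4 := map_sub ((𝔜.OshProj h𝔜.1 K).hom.app (op W)).hom (c (a' i)) (c (b i))
    exact (h4.trans ((congrArg (fun z : RSec (𝔜.X K).sheaf (𝔜.lvU h𝔜.1 K W) => oK h𝔜.1 K W (c (a' i)) - z) h1).trans
      (sub_zero _))).symm

end FRpushCmplLib

end
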