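import Groth.Agent.FRpushLib.LevelMod
import Groth.Agent.FModLib.HPush
import Groth.Agent.FComplLib.Completion
import Groth.Prelude.Def_FSch6

/-!
# The square of a morphism and its completion
-/

set_option autoImplicit false
set_option linter.style.haveILetI false
set_option linter.unusedSectionVars false
set_option maxHeartbeats 800000
set_option synthInstance.maxHeartbeats 80000

universe u

open CategoryTheory CategoryTheory.Limits AlgebraicGeometry TopologicalSpace Opposite FSch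
open FRpushLib (toAbS rm pre)

noncomputable section

namespace FRpushCmplLib

/-- Sections of the structure sheaf of a formal scheme are detected on the levels. -/
theorem osh_ext {𝔛 : Sys.{u}} (h : 𝔛.IsFormal) {V : (𝔛.X 0).Opens} {a b : (𝔛.Osh h).obj.obj (op V)}
    (hab : ∀ k, (𝔛.OshProj h k).hom.app (op V) a = (𝔛.OshProj h k).hom.app (op V) b) : a = b :=
  Concrete.isLimit_ext _ (isLimitOfPreserves (sheafToPresheaf (Opens.grothendieckTopology (𝔛.X 0)) CommRingCat.{u} ⋙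
    (evaluation _ _).obj (op V)) (limit.isLimit (𝔛.levelRing h))) a b fun ⟨k⟩ => hab k

section ToScheme

variable {𝔛 : Sys.{u}} (h : 𝔛.IsFormal) {Y : Scheme.{u}} (p : ∀ n, 𝔛.X n ⟶ Y) (hp : ∀ n, 𝔛.ι n ≫ p (n + 1) = p n)

theorem schSharp_app (k : ℕ) (U : Y.Opens) (x : Γ(Y, U)) :
    (𝔛.OshProj h k).hom.app (op (p 0 ⁻¹ᵁ U)) ((schSharp 𝔛 h p hp).hom.app (op U) x) =
      (p k).appLE U (𝔛.lvU h k (p 0 ⁻¹ᵁ U)) (lvU_p 𝔛 h p hp k U).ge x :=
  congr($(congrArg (fun a : Y.sheaf ⟶ (TopCat.Sheaf.pushforward CommRingCat.{u} (p 0).base).obj (𝔛.levelObj h k) =>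
    a.hom.app (op U)) (schSharp_proj 𝔛 h p hp k)) x)

/-- The direct image to the scheme, on the modules. -/
abbrev sPush : ModF 𝔛 h ⥤ ModSite.Mod Y.sheaf := (rm (p 0).base (schSharp 𝔛 h p hp)).push

instance additive_sPush : (sPush h p hp).Additive :=
  ⟨fun {M N a b} => (rm (p 0).base (schSharp 𝔛 h p hp)).push.map_add (f := a) (g := b)⟩

variable [IsClosedImmersion (p 0)]

theorem shortExact_sPush {S : ShortComplex (ModF 𝔛 h)} (hS : S.ShortExact) : (S.map (sPush h p hp)).ShortExact := by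
  have h1 := hS.map_of_exact (toAbS (𝔛.Osh h))
  haveI : PreservesFiniteLimits (CohTop.push (p 0).base) := inferInstance
  have h2 := h1.map_of_exact (CohTop.push (p 0).base)
  exact
    { exact := (ShortComplex.exact_map_iff_of_faithful _ (toAbS Y.sheaf)).mp h2.exact
      mono_f := (toAbS Y.sheaf).mono_of_mono_map h2.mono_f
      epi_g := (toAbS Y.sheaf).epi_of_epi_map h2.epi_g }

theorem preservesHomology_sPush : (rm (p 0).base (schSharp 𝔛 h p hp)).push.PreservesHomology :=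
  ((Functor.exact_tfae (sPush h p hp)).out 0 2 rfl rfl).mp fun _ hS => shortExact_sPush h p hp hS

end ToScheme

section Completion

variable {X Y : Scheme.{u}} (f : X ⟶ Y) (𝓘 : Y.IdealSheafData) (𝓚 : X.IdealSheafData) (hpc : PowCompat f 𝓚 𝓘)
  (hX : (completionAlong X 𝓚).IsFormal) (hY : (completionAlong Y 𝓘).IsFormal)

theorem pre_eq (W : Y.Opens) :
    pre ((completionMap f 𝓚 𝓘 hpc : Hom _ _).app 0).base (pre (completionToX Y 𝓘 0).base W) =
      pre (completionToX X 𝓚 0).base (pre f.base W) := by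
  show (completionMap f 𝓚 𝓘 hpc : Hom _ _).app 0 ⁻¹ᵁ (completionToX Y 𝓘 0 ⁻¹ᵁ W) = completionToX X 𝓚 0 ⁻¹ᵁ (f ⁻¹ᵁ W)
  rw [← Scheme.Hom.comp_preimage, ← Scheme.Hom.comp_preimage, FComplLib.completionMap_app_ι]

/-- The two inverse images of opens. -/
def sqOpens : Opens.map f.base ⋙ Opens.map (completionToX X 𝓚 0).base ≅
    Opens.map (completionToX Y 𝓘 0).base ⋙ Opens.map ((completionMap f 𝓚 𝓘 hpc : Hom _ _).app 0).base :=
  NatIso.ofComponents (fun W => eqToIso (pre_eq f 𝓘 𝓚 hpc W).symm) fun _ => Subsingleton.elim _ _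

theorem sharpSq_completion :
    ModSite.RMor.SharpSq (toSchemeMor (completionAlong X 𝓚) hX (completionToX X 𝓚) (completionToX_comm X 𝓚))
      (ModSite.RMor.ofScheme f) (homMor (completionMap f 𝓚 𝓘 hpc) hX hY)
      (toSchemeMor (completionAlong Y 𝓘) hY (completionToX Y 𝓘) (completionToX_comm Y 𝓘)) (sqOpens f 𝓘 𝓚 hpc) := by
  unfold ModSite.RMor.SharpSq
  refine Sheaf.hom_ext (NatTrans.ext (funext fun ⟨U⟩ => CommRingCat.hom_ext (RingHom.ext fun x => ?_)))
  refine osh_ext hX fun k => ?_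
  let φ : Hom (completionAlong X 𝓚) (completionAlong Y 𝓘) := completionMap f 𝓚 𝓘 hpc
  show ((completionAlong X 𝓚).OshProj hX k).hom.app (op (φ.app 0 ⁻¹ᵁ (completionToX Y 𝓘 0 ⁻¹ᵁ U)))
      (((completionAlong X 𝓚).Osh hX).obj.map (eqToHom (pre_eq f 𝓘 𝓚 hpc U)).op
        ((schSharp _ hX (completionToX X 𝓚) (completionToX_comm X 𝓚)).hom.app (op (f ⁻¹ᵁ U)) (f.app U x))) =
    ((completionAlong X 𝓚).OshProj hX k).hom.app (op (φ.app 0 ⁻¹ᵁ (completionToX Y 𝓘 0 ⁻¹ᵁ U)))
      ((Hom.sharp φ hX hY).hom.app (op (completionToX Y 𝓘 0 ⁻¹ᵁ U))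
        ((schSharp _ hY (completionToX Y 𝓘) (completionToX_comm Y 𝓘)).hom.app (op U) x))
  rw [FRpushLib.sharp_level_app φ hX hY k, schSharp_app]
  refine (congr($(((completionAlong X 𝓚).OshProj hX k).hom.naturality (eqToHom (pre_eq f 𝓘 𝓚 hpc U)).op)
    ((schSharp _ hX (completionToX X 𝓚) (completionToX_comm X 𝓚)).hom.app (op (f ⁻¹ᵁ U)) (f.app U x)))).trans ?_
  refine (congrArg (((completionAlong X 𝓚).levelObj hX k).obj.map (eqToHom (pre_eq f 𝓘 𝓚 hpc U)).op)
    (schSharp_app hX (completionToX X 𝓚) (completionToX_comm X 𝓚) k (f ⁻¹ᵁ U) (f.app U x))).trans ?_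
  have hw : completionToX X 𝓚 k ≫ f = φ.app k ≫ completionToX Y 𝓘 k :=
    (FComplLib.completionMap_app_ι f 𝓚 𝓘 hpc k).symm
  have hle : (completionAlong X 𝓚).lvU hX k (φ.app 0 ⁻¹ᵁ (completionToX Y 𝓘 0 ⁻¹ᵁ U)) ≤
      (completionAlong X 𝓚).lvU hX k (completionToX X 𝓚 0 ⁻¹ᵁ (f ⁻¹ᵁ U)) :=
    (Opens.map ((completionAlong X 𝓚).gInv hX k)).monotone (pre_eq f 𝓘 𝓚 hpc U).le
  have key : f.app U ≫ (completionToX X 𝓚 k).appLE (f ⁻¹ᵁ U) _ (lvU_p _ hX _ (completionToX_comm X 𝓚) k _).ge ≫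
      ((completionAlong X 𝓚).X k).presheaf.map (homOfLE hle).op =
    (completionToX Y 𝓘 k).appLE U _ (lvU_p _ hY _ (completionToX_comm Y 𝓘) k U).ge ≫
      (φ.app k).appLE _ _ (Hom.lvU_preimage φ hX hY k _).ge := by
    rw [Scheme.Hom.app_eq_appLE, Scheme.Hom.appLE_map, Scheme.Hom.appLE_comp_appLE, Scheme.Hom.appLE_comp_appLE]
    simp only [hw]
  refine Eq.trans ?_ congr($key x)
  exact congr($(congrArg ((completionAlong X 𝓚).X k).presheaf.map (Subsingleton.elim _ _)) _)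

/-- The square on direct images. -/
def sqIso : (toSchemeMor (completionAlong X 𝓚) hX (completionToX X 𝓚) (completionToX_comm X 𝓚)).push ⋙
      (ModSite.RMor.ofScheme f).push ≅
    (homMor (completionMap f 𝓚 𝓘 hpc) hX hY).push ⋙
      (toSchemeMor (completionAlong Y 𝓘) hY (completionToX Y 𝓘) (completionToX_comm Y 𝓘)).push :=
  ModSite.RMor.pushSq (sharpSq_completion f 𝓘 𝓚 hpc hX hY)

theorem sqIso_app (N : ModF (completionAlong X 𝓚) hX) (W : Y.Opens)
    (s : N.val.presheaf.obj (op (pre (completionToX X 𝓚 0).base (pre f.base W)))) :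
    ((sqIso f 𝓘 𝓚 hpc hX hY).hom.app N).val.app (op W) s =
      N.val.presheaf.map (homOfLE (pre_eq f 𝓘 𝓚 hpc W).le).op s :=
  congr($(congrArg N.val.presheaf.map (Subsingleton.elim _ _)) s)

end Completion

end FRpushCmplLib

end
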