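import Groth.Agent.FRpushCmplLib.Square
import Groth.Agent.FRpushCmplLib.Sq
import Groth.Agent.FRpushLib.Lim
import Groth.Agent.FRpushLib.LevelAc
import Groth.Agent.FModLib.SchComp
import Groth.Agent.QCohLib.Push
import Groth.Agent.QCohLib.Vanishing
import Groth.Agent.RpushLib.Push

/-!
# The comparison of the completion of a higher direct image with the limit over the levels
-/

set_option autoImplicit false
set_option linter.style.haveILetI false
set_option linter.unusedSectionVars false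
set_option maxHeartbeats 800000
set_option synthInstance.maxHeartbeats 80000

universe u

open CategoryTheory CategoryTheory.Limits AlgebraicGeometry TopologicalSpace Opposite FSch CategoryTheory.Abelian
open FRpushLib (toAbS rm pre th rG rT)
open QCohLib (HU)

noncomputable section

namespace FRpushCmplLib

/-- Classes against sections for a quasi-coherent module over an affine open. -/
theorem theta_scheme_bijective {X Y : Scheme.{u}} (f : X ⟶ Y) [QuasiCompact f] [QuasiSeparated f]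
    [hI : HasInjectiveResolutions X.Modules] (M : X.Modules) [Coh.IsQCoh M] (q : ℕ) {W : Y.Opens}
    (hW : IsAffineOpen W) :
    Function.Bijective (@FRpushLib.theta X.toTopCat Y.toTopCat X.sheaf Y.sheaf f.base ⟨f.c⟩ hI q M W) :=
  @FRpushLib.theta_bijective X.toTopCat Y.toTopCat X.sheaf Y.sheaf f.base ⟨f.c⟩ hI q M W fun j _ m => by
    haveI := RpushLib.isQCoh_Rpush f M j
    exact QCohLib.subsingleton_HU_affine ((Coh.Rpush f j).obj M) m hW

variable {X Y : Scheme.{u}} [IsNoetherian X] [IsNoetherian Y] (f : X ⟶ Y) [IsProper f] (𝓘 : Y.IdealSheafData)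
  (𝓚 : X.IdealSheafData) (h𝓚 : 𝓚 = 𝓘.comap f) (hpc : PowCompat f 𝓚 𝓘)
  (hX : (completionAlong X 𝓚).IsFormal) (hY : (completionAlong Y 𝓘).IsFormal)
  [HasInjectiveResolutions X.Modules] [HasInjectiveResolutions (ModF (completionAlong X 𝓚) hX)]

instance hasInjRes_sheaf : HasInjectiveResolutions (ModSite.Mod X.sheaf) := ‹HasInjectiveResolutions X.Modules›

/-- The completed morphism. -/
abbrev cφ : completionAlong X 𝓚 ⟶ completionAlong Y 𝓘 := completionMap f 𝓚 𝓘 hpc

theorem hlocX (hX : (completionAlong X 𝓚).IsFormal) : (completionAlong X 𝓚).IsLocNoethFormal :=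
  ⟨hX, FComplLib.completionAlong_isAdic X 𝓚, (FComplLib.completionAlong_isLocNoethFormal X 𝓚).2.2⟩

theorem hlocY (hY : (completionAlong Y 𝓘).IsFormal) : (completionAlong Y 𝓘).IsLocNoethFormal :=
  ⟨hY, FComplLib.completionAlong_isAdic Y 𝓘, (FComplLib.completionAlong_isLocNoethFormal Y 𝓘).2.2⟩

include h𝓚 in
theorem isProperHom_cφ : IsProperHom (cφ f 𝓘 𝓚 hpc) := by
  subst h𝓚
  exact ⟨FComplLib.completion_isAdicHom f 𝓘 hpc,
    MorphismProperty.of_isPullback (FComplLib.completion_level_isPullback f 𝓘 hpc 0) inferInstance⟩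

theorem isAffine_pre {W : Y.Opens} (hW : IsAffineOpen W) :
    IsAffineOpen (pre (completionToX Y 𝓘 0).base W : ((completionAlong Y 𝓘).X 0).Opens) :=
  haveI := FComplLib.isClosedImmersion_completionToX Y 𝓘 0
  hW.preimage (completionToX Y 𝓘 0)

variable (F : X.Modules) (hF : Coh.IsCoh F) (n : ℕ)

/-- The completion of the module. -/
abbrev cF : ModF (completionAlong X 𝓚) hX := FModLib.cmpl hX (completionToX X 𝓚) (completionToX_comm X 𝓚) F

/-- A level of the completion, on the formal scheme. -/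
abbrev cL (k : ℕ) : ModF (completionAlong X 𝓚) hX :=
  (levelMor (completionAlong X 𝓚) hX k).push.obj ((levelMor (completionAlong X 𝓚) hX k).pull.obj (cF 𝓚 hX F))

/-- A level of the completion, on the scheme. -/
abbrev cQ (k : ℕ) : X.Modules :=
  (toSchemeMor (completionAlong X 𝓚) hX (completionToX X 𝓚) (completionToX_comm X 𝓚)).push.obj (cL 𝓚 hX F k)

/-- The map to a level. -/
abbrev cη (k : ℕ) : F ⟶ cQ 𝓚 hX F k := FModLib.eta hX (completionToX X 𝓚) (completionToX_comm X 𝓚) F k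

include hF in
theorem isCohF_cF : IsCohF (completionAlong X 𝓚) hX (cF 𝓚 hX F) :=
  haveI : SheafOfModules.IsFinitePresentation (R := ModSite.ringSh X.sheaf) F := QCohLib.isFP_of_isCoh F hF
  FModLib.isFP_pull (completionToX X 𝓚 0).base
    (schSharp (completionAlong X 𝓚) hX (completionToX X 𝓚) (completionToX_comm X 𝓚)) F

include hF in
theorem isQCoh_cQ (k : ℕ) : Coh.IsQCoh (cQ 𝓚 hX F k) := by
  haveI := FModLib.isIso_schPushCompare hX (completionToX X 𝓚) (completionToX_comm X 𝓚) k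
  haveI : Coh.IsQCoh ((levelMor (completionAlong X 𝓚) hX k).pull.obj (cF 𝓚 hX F)) :=
    (FModLib.isCoh_lev hX (cF 𝓚 hX F) (isCohF_cF 𝓚 hX F hF) k).1
  haveI := FComplLib.isClosedImmersion_completionToX X 𝓚 k
  have h := QCohLib.isQCoh_pushforward (completionToX X 𝓚 k) ((levelMor (completionAlong X 𝓚) hX k).pull.obj (cF 𝓚 hX F))
  exact (SheafOfModules.isQuasicoherent X.ringCatSheaf).prop_of_iso
    ((asIso (schPushCompare (completionAlong X 𝓚) hX (completionToX X 𝓚) (completionToX_comm X 𝓚) k)).app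
      ((levelMor (completionAlong X 𝓚) hX k).pull.obj (cF 𝓚 hX F))) h

theorem preservesHomology_iX :
    (rm (completionToX X 𝓚 0).base (schSharp (completionAlong X 𝓚) hX (completionToX X 𝓚) (completionToX_comm X 𝓚))).push.PreservesHomology :=
  haveI := FComplLib.isClosedImmersion_completionToX X 𝓚 0
  preservesHomology_sPush hX (completionToX X 𝓚) (completionToX_comm X 𝓚)

/-- Cohomology on the formal scheme as cohomology of the direct image. -/
abbrev cP (k : ℕ) (W : Y.Opens) :=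
  haveI := preservesHomology_iX 𝓚 hX
  sqP (completionToX X 𝓚 0).base
    (schSharp (completionAlong X 𝓚) hX (completionToX X 𝓚) (completionToX_comm X 𝓚)) n f.base ((cφ f 𝓘 𝓚 hpc : Hom _ _).app 0).base (completionToX Y 𝓘 0).base
    (pre_eq f 𝓘 𝓚 hpc) (cL 𝓚 hX F k) W

include h𝓚 hF in
/-- **The comparison with the limit over the levels, with its values on classes.** -/
theorem exists_rho :
    ∃ ρ : (toSchemeMor (completionAlong Y 𝓘) hY (completionToX Y 𝓘) (completionToX_comm Y 𝓘)).pull.obj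
          ((Coh.Rpush f n).obj F) ⟶
        limit (Functor.ofOpSequence (X := rG (cφ f 𝓘 𝓚 hpc) (hlocX 𝓚 hX) hY (cF 𝓚 hX F) n)
          (rT (cφ f 𝓘 𝓚 hpc) (hlocX 𝓚 hX) hY (cF 𝓚 hX F) n)),
      ∀ (W : Y.Opens), IsAffineOpen W → ∀ (k : ℕ) (y : HU ((toAbS X.sheaf).obj F) n (pre f.base W))
        (x : HU ((toAbS ((completionAlong X 𝓚).Osh hX)).obj (cL 𝓚 hX F k)) n
          (pre ((cφ f 𝓘 𝓚 hpc : Hom _ _).app 0).base (pre (completionToX Y 𝓘 0).base W))),
        cP f 𝓘 𝓚 hpc hX F n k W x = y.comp (Ext.mk₀ ((toAbS X.sheaf).map (cη 𝓚 hX F k))) (add_zero n) →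
        (limit.π (Functor.ofOpSequence (X := rG (cφ f 𝓘 𝓚 hpc) (hlocX 𝓚 hX) hY (cF 𝓚 hX F) n)
            (rT (cφ f 𝓘 𝓚 hpc) (hlocX 𝓚 hX) hY (cF 𝓚 hX F) n)) (op k)).val.app
            (op (pre (completionToX Y 𝓘 0).base W))
          (ρ.val.app (op (pre (completionToX Y 𝓘 0).base W))
            (FModLib.unitSec (completionToX Y 𝓘 0).base
              (schSharp (completionAlong Y 𝓘) hY (completionToX Y 𝓘) (completionToX_comm Y 𝓘))
              ((Coh.Rpush f n).obj F) W (FRpushLib.theta (OX := X.sheaf) (OY := Y.sheaf) f.base ⟨f.c⟩ n F W y))) =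
          th (cφ f 𝓘 𝓚 hpc) (hlocX 𝓚 hX) hY n (cL 𝓚 hX F k)
            (pre (completionToX Y 𝓘 0).base W) x := by
  haveI : Coh.IsQCoh F := hF.1
  haveI := FComplLib.isClosedImmersion_completionToX Y 𝓘 0
  haveI := preservesHomology_sPush hY (completionToX Y 𝓘) (completionToX_comm Y 𝓘)
  haveI := preservesHomology_iX 𝓚 hX
  exact exists_sqRho (OX := X.sheaf) (OY := Y.sheaf) (completionToX X 𝓚 0).base
    (schSharp (completionAlong X 𝓚) hX (completionToX X 𝓚) (completionToX_comm X 𝓚)) n f.base ⟨f.c⟩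
    ((cφ f 𝓘 𝓚 hpc : Hom _ _).app 0).base (Hom.sharp (cφ f 𝓘 𝓚 hpc) hX hY) (completionToX Y 𝓘 0).base
    (schSharp (completionAlong Y 𝓘) hY (completionToX Y 𝓘) (completionToX_comm Y 𝓘))
    (sqIso f 𝓘 𝓚 hpc hX hY) (pre_eq f 𝓘 𝓚 hpc) (sqIso_app f 𝓘 𝓚 hpc hX hY) F Y.isBasis_affineOpens
    (cL 𝓚 hX F) (fun k => levelTrans (completionAlong X 𝓚) hX (cF 𝓚 hX F) k) (cη 𝓚 hX F)
    (fun k => FModLib.eta_levelTrans hX (completionToX X 𝓚) (completionToX_comm X 𝓚) F k)
    (fun W hW => theta_scheme_bijective f F n hW)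
    (fun k W hW => by
      haveI := isQCoh_cQ 𝓚 hX F hF k
      exact theta_scheme_bijective f (cQ 𝓚 hX F k) n hW)
    (fun k W hW => FRpushLib.theta_bijective _ _ n _ _ fun j _ m => FRpushLib.levAc (hlocX 𝓚 hX) (hlocY 𝓘 hY)
      (isProperHom_cφ f 𝓘 𝓚 h𝓚 hpc) (cF 𝓚 hX F) (isCohF_cF 𝓚 hX F hF) _ (isAffine_pre 𝓘 hW) k j m)

end FRpushCmplLib

end
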