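import Groth.Agent.FRpushCmplLib.Alpha
import Groth.Agent.FRpushLib.ThetaSmul
import Groth.Agent.FormalLib.Main

/-!
# Formal functions on the preimage of an affine open, in terms of classes on opens
-/

set_option autoImplicit false
set_option linter.style.haveILetI false
set_option linter.unusedSectionVars false
set_option maxHeartbeats 800000
set_option synthInstance.maxHeartbeats 80000

universe u

open CategoryTheory CategoryTheory.Limits AlgebraicGeometry TopologicalSpace Opposite FSch CategoryTheory.Abelian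
open FRpushLib (toAbS pre restrU restrU_natural restrU_bijective scal theta_smul theta)
open QCohLib (HU restrAb)

noncomputable section

namespace FRpushCmplLib

section Open

variable {X : Scheme.{u}} (U : X.Opens)

theorem ι_image : U = U.ι ''ᵁ (⊤ : (U : Scheme.{u}).Opens) := U.ι_image_top.symm

/-- Classes on an open as cohomology of the open subscheme. -/
def openH (M : X.Modules) (n : ℕ) : HU ((toAbS X.sheaf).obj M) n U →+ Coh.HH (U : Scheme.{u}) (M.restrict U.ι) n :=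
  (QCohLib.hEquiv (X := (U : Scheme.{u}).toTopCat) ((restrAb U.ι).obj ((toAbS X.sheaf).obj M)) n).symm.toAddMonoidHom.comp
    (restrU U.ι (ι_image U) ((toAbS X.sheaf).obj M) n)

theorem openH_bijective (M : X.Modules) (n : ℕ) : Function.Bijective (openH U M n) :=
  (QCohLib.hEquiv (X := (U : Scheme.{u}).toTopCat) ((restrAb U.ι).obj ((toAbS X.sheaf).obj M)) n).symm.bijective.comp
    (restrU_bijective U.ι (ι_image U) _ n)

theorem hEquiv_openH (M : X.Modules) (n : ℕ) (x : HU ((toAbS X.sheaf).obj M) n U) :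
    QCohLib.hEquiv (X := (U : Scheme.{u}).toTopCat) ((restrAb U.ι).obj ((toAbS X.sheaf).obj M)) n (openH U M n x) =
      restrU U.ι (ι_image U) ((toAbS X.sheaf).obj M) n x :=
  AddEquiv.apply_symm_apply _ _

theorem openH_natural {M N : X.Modules} (a : M ⟶ N) (n : ℕ) (x : HU ((toAbS X.sheaf).obj M) n U) :
    openH U N n (x.comp (Ext.mk₀ ((toAbS X.sheaf).map a)) (add_zero n)) =
      Sheaf.H.map ((SheafOfModules.toSheaf (U : Scheme.{u}).ringCatSheaf).map
        ((Scheme.Modules.restrictFunctor U.ι).map a)) n (openH U M n x) := by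
  refine (QCohLib.hEquiv (X := (U : Scheme.{u}).toTopCat) ((restrAb U.ι).obj ((toAbS X.sheaf).obj N)) n).injective ?_
  refine (hEquiv_openH U N n _).trans ((restrU_natural U.ι (ι_image U) _ n x).trans ?_)
  refine Eq.trans ?_ (QCohLib.hEquiv_map (X := (U : Scheme.{u}).toTopCat) ((restrAb U.ι).map ((toAbS X.sheaf).map a)) n
    (openH U M n x)).symm
  exact congrArg (fun z => Ext.comp z _ (add_zero n)) (hEquiv_openH U M n x).symm

end Open

variable {X Y : Scheme.{u}} [IsNoetherian X] [IsNoetherian Y] (f : X ⟶ Y) [IsProper f] (𝓘 : Y.IdealSheafData)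
  (𝓚 : X.IdealSheafData) (h𝓚 : 𝓚 = 𝓘.comap f) (hX : (completionAlong X 𝓚).IsFormal)
  [HasInjectiveResolutions X.Modules] (F : X.Modules) (hF : Coh.IsCoh F) (n : ℕ) {W : Y.Opens} (hW : IsAffineOpen W)

theorem theta_smul_open (b : Γ(Y, W)) (x x' : HU ((toAbS X.sheaf).obj F) n (pre f.base W))
    (h : letI := overW f hW
      openH (f ⁻¹ᵁ W) F n x' = b • openH (f ⁻¹ᵁ W) F n x) :
    (show FModLib.MSec ((Coh.Rpush f n).obj F) W from theta (OX := X.sheaf) (OY := Y.sheaf) f.base ⟨f.c⟩ n F W x') =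
      b • (show FModLib.MSec ((Coh.Rpush f n).obj F) W from theta (OX := X.sheaf) (OY := Y.sheaf) f.base ⟨f.c⟩ n F W x) := by
  let U : X.Opens := f ⁻¹ᵁ W
  let g := f.resLE W U le_rfl ≫ hW.isoSpec.hom
  have key : restrU U.ι (ι_image U) ((toAbS X.sheaf).obj F) n x' =
      (restrU U.ι (ι_image U) ((toAbS X.sheaf).obj F) n x).comp
        (Ext.mk₀ (Coh.smulAb (F.restrict U.ι) (Coh.toGlobal g b))) (add_zero n) := by
    refine (hEquiv_openH U F n x').symm.trans ((congrArg (QCohLib.hEquiv _ n) h).trans ?_)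
    refine (QCohLib.hEquiv_map (Coh.smulAb (F.restrict U.ι) (Coh.toGlobal g b)) n (openH U F n x)).trans ?_
    exact congrArg (fun z => Ext.comp z _ (add_zero n)) (hEquiv_openH U F n x)
  have e : Coh.smulAb (F.restrict U.ι) (Coh.toGlobal g b) =
      scal U.ι (ι_image U) (O := X.sheaf) F (f.app W b) := by
    refine Sheaf.hom_ext (NatTrans.ext (funext fun O => ConcreteCategory.hom_ext _ _ fun s => ?_))
    refine congrArg (fun c : Γ(X, U.ι ''ᵁ O.unop) => c • (show Γ(F, U.ι ''ᵁ O.unop) from s)) ?_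
    letI := overW f hW
    refine (rhoA_overW f hW O.unop b).trans ?_
    rw [Scheme.Hom.appLE]
    exact congr($(congrArg X.presheaf.map (Subsingleton.elim _ _)) (f.app W b))
  exact theta_smul (OX := X.sheaf) (OY := Y.sheaf) U.ι f.base ⟨f.c⟩ n F W (ι_image U) b x x'
    (key.trans (congrArg (fun a => Ext.comp (restrU U.ι (ι_image U) ((toAbS X.sheaf).obj F) n x) (Ext.mk₀ a) (add_zero n)) e))

include hW in
theorem isProper_overW : letI := overW f hW
    IsProper (((f ⁻¹ᵁ W : X.Opens) : Scheme.{u}) ↘ Spec (CommRingCat.of Γ(Y, W))) := by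
  letI := overW f hW
  haveI : IsProper (f.resLE W (f ⁻¹ᵁ W) le_rfl) := by
    rw [Scheme.Hom.resLE_eq_morphismRestrict]
    infer_instance
  show IsProper (f.resLE W (f ⁻¹ᵁ W) le_rfl ≫ hW.isoSpec.hom)
  infer_instance

theorem HH_inv_hom {Z : Scheme.{u}} {M N : Z.Modules} (e : M ≅ N) (n : ℕ) (x : Coh.HH Z M n) :
    Sheaf.H.map ((SheafOfModules.toSheaf Z.ringCatSheaf).map e.inv) n
      (Sheaf.H.map ((SheafOfModules.toSheaf Z.ringCatSheaf).map e.hom) n x) = x := by
  refine (Sheaf.H.map_comp_apply _ _ x).symm.trans ?_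
  refine (congrArg (fun a => Sheaf.H.map a n x) (((SheafOfModules.toSheaf Z.ringCatSheaf).map_comp _ _).symm.trans
    ((congrArg (SheafOfModules.toSheaf Z.ringCatSheaf).map e.hom_inv_id).trans
      ((SheafOfModules.toSheaf Z.ringCatSheaf).map_id M)))).trans ?_
  exact Sheaf.H.map_id_apply x

theorem sandwich {C : Type*} [Category* C] {A A' B B' : C} (β : A ≅ A') (α : B ≅ B') (t : A' ⟶ B') :
    β.inv ≫ (β.hom ≫ t ≫ α.inv) ≫ α.hom = t := by simp

include h𝓚 hF in
/-- **The classes killed on a high level are deep.** -/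
theorem exists_ker_deep :
    ∃ c : ℕ, ∀ k (y : HU ((toAbS X.sheaf).obj F) n (pre f.base W)),
      y.comp (Ext.mk₀ ((toAbS X.sheaf).map (cη 𝓚 hX F k))) (add_zero n) = 0 →
      (show FModLib.MSec ((Coh.Rpush f n).obj F) W from theta (OX := X.sheaf) (OY := Y.sheaf) f.base ⟨f.c⟩ n F W y) ∈
        (𝓘.ideal ⟨W, hW⟩ ^ (k - c) • ⊤ : Submodule Γ(Y, W) (FModLib.MSec ((Coh.Rpush f n).obj F) W)) := by
  letI := overW f hW
  haveI := isProper_overW f hW
  haveI : IsNoetherianRing Γ(Y, W) := IsLocallyNoetherian.component_noetherian ⟨W, hW⟩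
  haveI : Coh.IsQCoh F := hF.1
  have hF' : Coh.IsCoh (F.restrict (f ⁻¹ᵁ W).ι) := CohGenLib.isCoh_restrict (f ⁻¹ᵁ W).ι hF
  obtain ⟨c, hc⟩ := FormalLib.exists_ker_bound (𝓘.ideal ⟨W, hW⟩) hF' n
  refine ⟨c, fun k y hy => ?_⟩
  rcases Nat.lt_or_ge k c with hk | hk
  · rw [Nat.sub_eq_zero_of_le hk.le, pow_zero, Ideal.one_eq_top, Submodule.top_smul]
    exact Submodule.mem_top
  obtain ⟨α, hα⟩ := exists_alpha f 𝓘 𝓚 h𝓚 hX F k hW
  let V := f ⁻¹ᵁ W
  have h1 : Sheaf.H.map ((SheafOfModules.toSheaf (V : Scheme.{u}).ringCatSheaf).map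
      ((Scheme.Modules.restrictFunctor V.ι).map (cη 𝓚 hX F k))) n (openH V F n y) = 0 :=
    (openH_natural V (cη 𝓚 hX F k) n y).symm.trans ((congrArg (openH V (cQ 𝓚 hX F k) n) hy).trans (map_zero _))
  rw [← hα] at h1
  have h2 : Sheaf.H.map ((SheafOfModules.toSheaf (V : Scheme.{u}).ringCatSheaf).map
      (Formal.modPowπ (𝓘.ideal ⟨W, hW⟩) (k + 1) (F.restrict V.ι))) n (openH V F n y) = 0 := by
    refine Eq.trans ?_ ((congrArg (Sheaf.H.map ((SheafOfModules.toSheaf (V : Scheme.{u}).ringCatSheaf).map α.inv) n)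
      ((Formal.HHmap_comp _ α.hom n _).trans h1)).trans (map_zero _))
    exact (HH_inv_hom α n _).symm
  have h3 : openH V F n y ∈
      (𝓘.ideal ⟨W, hW⟩ ^ (k - c) • ⊤ : Submodule Γ(Y, W) (Coh.HH (V : Scheme.{u}) (F.restrict V.ι) n)) := by
    refine FormalLib.pow_smul_mono (n := k - c) (m := k + 1 - c) (by omega) (hc (k + 1 - c) _ ?_)
    rw [Nat.sub_add_cancel (by omega : c ≤ k + 1), FormalLib.hMapA_apply]
    exact h2
  refine Submodule.smul_induction_on (p := fun z => ∀ y, openH V F n y = z →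
      (show FModLib.MSec ((Coh.Rpush f n).obj F) W from theta (OX := X.sheaf) (OY := Y.sheaf) f.base ⟨f.c⟩ n F W y) ∈
        (𝓘.ideal ⟨W, hW⟩ ^ (k - c) • ⊤ : Submodule Γ(Y, W) (FModLib.MSec ((Coh.Rpush f n).obj F) W)))
    h3 (fun a ha w _ y hy => ?_) (fun z z' hz hz' y hy => ?_) y rfl
  · obtain ⟨x, rfl⟩ := (openH_bijective V F n).2 w
    rw [theta_smul_open f F n hW a x y hy]
    exact Submodule.smul_mem_smul ha trivial
  · obtain ⟨x, rfl⟩ := (openH_bijective V F n).2 z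
    obtain ⟨x', rfl⟩ := (openH_bijective V F n).2 z'
    obtain rfl : y = x + x' := (openH_bijective V F n).1 (hy.trans (map_add _ _ _).symm)
    rw [map_add]
    exact add_mem (hz x rfl) (hz' x' rfl)

include h𝓚 hF hW in
/-- **Classes on a high level come from the module on a lower one.** -/
theorem exists_ml :
    ∃ c : ℕ, ∀ k (τ : cQ 𝓚 hX F (k + c) ⟶ cQ 𝓚 hX F k), cη 𝓚 hX F (k + c) ≫ τ = cη 𝓚 hX F k →
      ∀ z : HU ((toAbS X.sheaf).obj (cQ 𝓚 hX F (k + c))) n (pre f.base W),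
        ∃ y : HU ((toAbS X.sheaf).obj F) n (pre f.base W),
          y.comp (Ext.mk₀ ((toAbS X.sheaf).map (cη 𝓚 hX F k))) (add_zero n) =
            z.comp (Ext.mk₀ ((toAbS X.sheaf).map τ)) (add_zero n) := by
  letI := overW f hW
  haveI := isProper_overW f hW
  haveI : IsNoetherianRing Γ(Y, W) := IsLocallyNoetherian.component_noetherian ⟨W, hW⟩
  haveI : Coh.IsQCoh F := hF.1
  have hF' : Coh.IsCoh (F.restrict (f ⁻¹ᵁ W).ι) := CohGenLib.isCoh_restrict (f ⁻¹ᵁ W).ι hF
  obtain ⟨c, hc⟩ := FormalLib.exists_ml_bound (𝓘.ideal ⟨W, hW⟩) hF' n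
  refine ⟨c, fun k τ hτ z => ?_⟩
  obtain ⟨α, hα⟩ := exists_alpha f 𝓘 𝓚 h𝓚 hX F k hW
  obtain ⟨β, hβ⟩ := exists_alpha f 𝓘 𝓚 h𝓚 hX F (k + c) hW
  let V := f ⁻¹ᵁ W
  let R := Scheme.Modules.restrictFunctor V.ι
  let S := SheafOfModules.toSheaf (V : Scheme.{u}).ringCatSheaf
  have ht : Formal.modPowπ (𝓘.ideal ⟨W, hW⟩) (k + c + 1) (F.restrict V.ι) ≫ β.hom ≫ R.map τ ≫ α.inv =
      Formal.modPowπ (𝓘.ideal ⟨W, hW⟩) (k + 1) (F.restrict V.ι) :=
    (Category.assoc _ _ _).symm.trans ((congrArg (fun a => a ≫ _) hβ).trans ((Category.assoc _ _ _).symm.trans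
      ((congrArg (fun a => a ≫ α.inv) ((R.map_comp _ _).symm.trans ((congrArg R.map hτ).trans hα.symm))).trans
        ((Category.assoc _ _ _).trans ((congrArg (fun a => _ ≫ a) α.hom_inv_id).trans (Category.comp_id _))))))
  obtain ⟨x, hx⟩ := hc (k + 1) (k + c + 1) (β.hom ≫ R.map τ ≫ α.inv) (by omega) ht
    (Sheaf.H.map (S.map β.inv) n (openH V (cQ 𝓚 hX F (k + c)) n z))
  obtain ⟨y, rfl⟩ := (openH_bijective V F n).2 x
  refine ⟨y, (openH_bijective V (cQ 𝓚 hX F k) n).1 ?_⟩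
  refine (openH_natural V (cη 𝓚 hX F k) n y).trans (Eq.trans ?_ (openH_natural V τ n z).symm)
  rw [FormalLib.hMapA_apply, FormalLib.hMapA_apply] at hx
  refine (congrArg (fun a => Sheaf.H.map (S.map a) n (openH V F n y)) hα.symm).trans ?_
  refine (Formal.HHmap_comp _ α.hom n _).symm.trans ((congrArg (Sheaf.H.map (S.map α.hom) n) hx).trans ?_)
  refine (Formal.HHmap_comp _ α.hom n _).trans ((Formal.HHmap_comp β.inv _ n _).trans ?_)
  refine congrArg (fun a => Sheaf.H.map (S.map a) n (openH V (cQ 𝓚 hX F (k + c)) n z)) ?_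
  exact sandwich β α (R.map τ)

end FRpushCmplLib

end
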