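import Groth.Agent.FRpushCmplLib.Compl
import Groth.Agent.FRpushCmplLib.Transfer
import Groth.Agent.FRpushLib.MLSheaf
import Groth.Agent.FRpushLib.WLim
import Groth.Agent.FCohLib.CohIso
import Groth.Agent.FCohLib.SpanPres
import Groth.Agent.FModLib.AffLevels
import Groth.Agent.RpushLib.Finite
import Groth.Agent.AtlasCohLib.Finiteness
import Groth.Agent.QCohLib.AffineFinite

/-!
# Maps between the levels, and the kernel of the comparison
-/

set_option autoImplicit false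
set_option linter.style.haveILetI false
set_option linter.unusedSectionVars false
set_option maxHeartbeats 800000
set_option synthInstance.maxHeartbeats 80000

universe u

open CategoryTheory CategoryTheory.Limits AlgebraicGeometry TopologicalSpace Opposite FSch CategoryTheory.Abelian
open FRpushLib (toAbS rm pre th rG rT prT theta)
open FModLib (MSec RSec oK LocPres unitSec sharpSec)
open QCohLib (HU)

noncomputable section

namespace FRpushCmplLib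

/-- A finite module over a Noetherian ring is finitely presented, with sums. -/
theorem exists_gen_rel_module (R M : Type u) [CommRing R] [IsNoetherianRing R] [AddCommGroup M] [Module R M]
    [Module.Finite R M] :
    ∃ (ι κ : Type u) (_ : Fintype ι) (_ : Fintype κ) (e : ι → M) (r : κ → ι → R),
      (∀ m, ∃ a : ι → R, ∑ i, a i • e i = m) ∧ (∀ j, ∑ i, r j i • e i = 0) ∧
      ∀ a : ι → R, ∑ i, a i • e i = 0 → ∃ w : κ → R, ∀ i, a i = ∑ j, w j * r j i := by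
  classical
  obtain ⟨n, e, he⟩ := Submodule.fg_iff_exists_fin_generating_family.1 (Module.Finite.fg_top (R := R) (M := M))
  let e' : ULift.{u} (Fin n) → M := fun i => e i.down
  let L : (ULift.{u} (Fin n) → R) →ₗ[R] M := Fintype.linearCombination R e'
  have hL : ∀ a, ∑ i, a i • e' i = L a := fun a => (Fintype.linearCombination_apply _ _ a).symm
  obtain ⟨m, r, hr⟩ := Submodule.fg_iff_exists_fin_generating_family.1 (IsNoetherian.noetherian (LinearMap.ker L))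
  refine ⟨ULift.{u} (Fin n), ULift.{u} (Fin m), inferInstance, inferInstance, e', fun j => r j.down,
    fun x => ?_, fun j => ?_, fun a ha => ?_⟩
  · have hx : x ∈ Submodule.span R (Set.range e) := by
      rw [he]
      exact Submodule.mem_top
    obtain ⟨c, hc⟩ := (Submodule.mem_span_range_iff_exists_fun _).1 hx
    exact ⟨fun i => c i.down, (Fintype.sum_equiv Equiv.ulift _ (fun i => c i • e i) fun _ => rfl).trans hc⟩
  · exact (hL _).trans (LinearMap.mem_ker.1 (hr ▸ Submodule.subset_span ⟨j.down, rfl⟩ : r j.down ∈ LinearMap.ker L))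
  · have hmem : a ∈ LinearMap.ker L := (hL a).symm.trans ha
    obtain ⟨w, hw⟩ := (Submodule.mem_span_range_iff_exists_fun _).1 (hr.symm ▸ hmem)
    refine ⟨fun j => w j.down, fun i => ?_⟩
    rw [← hw, Finset.sum_apply]
    exact (Fintype.sum_equiv Equiv.ulift _ (fun j => w j * r j i) fun _ => rfl).symm

theorem appLE_surjective_of_eq {Z Y : Scheme.{u}} (g : Z ⟶ Y) (U : Y.Opens) (V : Z.Opens)
    (e : V ≤ g ⁻¹ᵁ U) (he : g ⁻¹ᵁ U = V) (h : Function.Surjective (g.app U)) :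
    Function.Surjective (g.appLE U V e) := by
  subst he
  rw [← Scheme.Hom.app_eq_appLE]
  exact h

theorem app_map_comp {Y₀ : TopCat.{u}} {O₀ : Sheaf (Opens.grothendieckTopology Y₀) CommRingCat.{u}} {C : Type*}
    [Category* C] (G : C ⥤ ModSite.Mod O₀) {a b c : C} (u₁ : a ⟶ b) (u₂ : b ⟶ c) (V : Opens Y₀)
    (z : MSec (G.obj a) V) :
    (G.map (u₁ ≫ u₂)).val.app (op V) z = (G.map u₂).val.app (op V) ((G.map u₁).val.app (op V) z) := by
  rw [G.map_comp]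
  rfl

theorem app_map_id {Y₀ : TopCat.{u}} {O₀ : Sheaf (Opens.grothendieckTopology Y₀) CommRingCat.{u}} {C : Type*}
    [Category* C] (G : C ⥤ ModSite.Mod O₀) (a : C) (V : Opens Y₀) (z : MSec (G.obj a) V) :
    (G.map (𝟙 a)).val.app (op V) z = z := by
  rw [G.map_id]
  rfl

section Scalars

variable (Y : Scheme.{u}) (𝓘 : Y.IdealSheafData) (hY : (completionAlong Y 𝓘).IsFormal) {W : Y.Opens}

/-- The functions on the affine open, as functions on the completion. -/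
abbrev cS (W : Y.Opens) : Γ(Y, W) →+* RSec ((completionAlong Y 𝓘).Osh hY) (pre (completionToX Y 𝓘 0).base W) :=
  ((schSharp (completionAlong Y 𝓘) hY (completionToX Y 𝓘) (completionToX_comm Y 𝓘)).hom.app (op W)).hom

theorem lvU_pre (W : Y.Opens) (k : ℕ) :
    completionToX Y 𝓘 k ⁻¹ᵁ W = (completionAlong Y 𝓘).lvU hY k (pre (completionToX Y 𝓘 0).base W) :=
  lvU_p (completionAlong Y 𝓘) hY (completionToX Y 𝓘) (completionToX_comm Y 𝓘) k W

theorem cS_surjective (hW : IsAffineOpen W) (k : ℕ)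
    (a : RSec ((completionAlong Y 𝓘).Osh hY) (pre (completionToX Y 𝓘 0).base W)) :
    ∃ b, oK hY k (pre (completionToX Y 𝓘 0).base W) (cS Y 𝓘 hY W b) =
      oK hY k (pre (completionToX Y 𝓘 0).base W) a := by
  obtain ⟨b, hb⟩ := appLE_surjective_of_eq (completionToX Y 𝓘 k) W _
    (lvU_pre Y 𝓘 hY W k).ge (lvU_pre Y 𝓘 hY W k)
    (by
      haveI := FComplLib.isClosedImmersion_completionToX Y 𝓘 k
      exact (completionToX Y 𝓘 k).app_surjective W hW)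
    (oK hY k (pre (completionToX Y 𝓘 0).base W) a)
  exact ⟨b, (schSharp_app hY (completionToX Y 𝓘) (completionToX_comm Y 𝓘) k W b).trans hb⟩

theorem cS_kernel (hW : IsAffineOpen W) (k : ℕ) (b : Γ(Y, W)) :
    oK hY k (pre (completionToX Y 𝓘 0).base W) (cS Y 𝓘 hY W b) = 0 ↔ b ∈ 𝓘.ideal ⟨W, hW⟩ ^ (k + 1) := by
  have h : oK hY k (pre (completionToX Y 𝓘 0).base W) (cS Y 𝓘 hY W b) =
      (completionToX Y 𝓘 k).appLE W _ (lvU_pre Y 𝓘 hY W k).ge b :=
    schSharp_app hY (completionToX Y 𝓘) (completionToX_comm Y 𝓘) k W b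
  rw [h, ← powIdeal 𝓘 (k + 1) ⟨W, hW⟩]
  have e := FModLib.ker_appLE_of_eq (completionToX Y 𝓘 k) W _ (lvU_pre Y 𝓘 hY W k).ge (lvU_pre Y 𝓘 hY W k)
  have e2 : ((𝓘 ^ (k + 1)).subschemeι.ker).ideal ⟨W, hW⟩ = (𝓘 ^ (k + 1)).ideal ⟨W, hW⟩ := by
    rw [Scheme.IdealSheafData.ker_subschemeι]
  rw [← e2, Scheme.Hom.ker_apply]
  exact (Iff.rfl : _ ↔ b ∈ RingHom.ker ((completionToX Y 𝓘 k).appLE W _ (lvU_pre Y 𝓘 hY W k).ge).hom).trans
    (by rw [e]; rfl)

end Scalars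

variable {X Y : Scheme.{u}} [IsNoetherian X] [IsNoetherian Y] (f : X ⟶ Y) [IsProper f] (𝓘 : Y.IdealSheafData)
  (𝓚 : X.IdealSheafData) (h𝓚 : 𝓚 = 𝓘.comap f) (hpc : PowCompat f 𝓚 𝓘)
  (hX : (completionAlong X 𝓚).IsFormal) (hY : (completionAlong Y 𝓘).IsFormal)
  [HasInjectiveResolutions X.Modules] [HasInjectiveResolutions (ModF (completionAlong X 𝓚) hX)]
  (F : X.Modules) (hF : Coh.IsCoh F) (n : ℕ)

/-- The limit over the levels. -/
abbrev cLim : ModF (completionAlong Y 𝓘) hY :=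
  limit (Functor.ofOpSequence (X := rG (cφ f 𝓘 𝓚 hpc) (hlocX 𝓚 hX) hY (cF 𝓚 hX F) n)
    (rT (cφ f 𝓘 𝓚 hpc) (hlocX 𝓚 hX) hY (cF 𝓚 hX F) n))

/-- The projection of sections of the limit. -/
abbrev cPr (k : ℕ) (W : Y.Opens) :
    MSec (cLim f 𝓘 𝓚 hpc hX hY F n) (pre (completionToX Y 𝓘 0).base W) →+
      MSec (rG (cφ f 𝓘 𝓚 hpc) (hlocX 𝓚 hX) hY (cF 𝓚 hX F) n k) (pre (completionToX Y 𝓘 0).base W) :=
  prT (hlocY 𝓘 hY) (rT (cφ f 𝓘 𝓚 hpc) (hlocX 𝓚 hX) hY (cF 𝓚 hX F) n) k (pre (completionToX Y 𝓘 0).base W)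

include h𝓚 hF in
theorem th_cL_bijective {W : Y.Opens} (hW : IsAffineOpen W) (k : ℕ) :
    Function.Bijective (th (cφ f 𝓘 𝓚 hpc) (hlocX 𝓚 hX) hY n (cL 𝓚 hX F k) (pre (completionToX Y 𝓘 0).base W)) :=
  FRpushLib.theta_bijective _ _ n _ _ fun j _ m => FRpushLib.levAc (hlocX 𝓚 hX) (hlocY 𝓘 hY)
    (isProperHom_cφ f 𝓘 𝓚 h𝓚 hpc) (cF 𝓚 hX F) (isCohF_cF 𝓚 hX F hF) _ (isAffine_pre 𝓘 hW) k j m

/-- The transition map between two levels, on the formal scheme. -/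
theorem exists_tau (W : Y.Opens) (k : ℕ) : ∀ d : ℕ, ∃ lam : cL 𝓚 hX F (k + d) ⟶ cL 𝓚 hX F k,
    cη 𝓚 hX F (k + d) ≫
        (toSchemeMor (completionAlong X 𝓚) hX (completionToX X 𝓚) (completionToX_comm X 𝓚)).push.map lam =
      cη 𝓚 hX F k ∧
    ∀ m, cPr f 𝓘 𝓚 hpc hX hY F n k W m =
      ((RpushF (cφ f 𝓘 𝓚 hpc) hX hY n).map lam).val.app (op (pre (completionToX Y 𝓘 0).base W))
        (cPr f 𝓘 𝓚 hpc hX hY F n (k + d) W m)
  | 0 => by
    refine ⟨𝟙 _, ?_, fun m => ?_⟩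
    · exact (congrArg (fun a => cη 𝓚 hX F k ≫ a)
        ((toSchemeMor (completionAlong X 𝓚) hX (completionToX X 𝓚) (completionToX_comm X 𝓚)).push.map_id _)).trans
        (Category.comp_id _)
    · exact (app_map_id (RpushF (cφ f 𝓘 𝓚 hpc) hX hY n) (cL 𝓚 hX F k) _ _).symm
  | d + 1 => by
    obtain ⟨lam, h1, h2⟩ := exists_tau W k d
    refine ⟨levelTrans (completionAlong X 𝓚) hX (cF 𝓚 hX F) (k + d) ≫ lam, ?_, fun m => ?_⟩
    · refine (congrArg (fun a => cη 𝓚 hX F (k + d + 1) ≫ a)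
        ((toSchemeMor (completionAlong X 𝓚) hX (completionToX X 𝓚) (completionToX_comm X 𝓚)).push.map_comp _ _)).trans ?_
      refine (Category.assoc _ _ _).symm.trans (Eq.trans ?_ h1)
      exact congrArg (fun a => a ≫ (toSchemeMor (completionAlong X 𝓚) hX (completionToX X 𝓚)
          (completionToX_comm X 𝓚)).push.map lam)
        (FModLib.eta_levelTrans hX (completionToX X 𝓚) (completionToX_comm X 𝓚) F (k + d))
    · refine (h2 m).trans (Eq.trans ?_ (app_map_comp (RpushF (cφ f 𝓘 𝓚 hpc) hX hY n)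
        (levelTrans (completionAlong X 𝓚) hX (cF 𝓚 hX F) (k + d)) lam (pre (completionToX Y 𝓘 0).base W)
        (cPr f 𝓘 𝓚 hpc hX hY F n (k + d + 1) W m)).symm)
      exact congrArg (((RpushF (cφ f 𝓘 𝓚 hpc) hX hY n).map lam).val.app (op (pre (completionToX Y 𝓘 0).base W)))
        (FRpushLib.towSec_succ _ (rT (cφ f 𝓘 𝓚 hpc) (hlocX 𝓚 hX) hY (cF 𝓚 hX F) n) m (k + d)).symm

theorem cP_natural {k k' : ℕ} (lam : cL 𝓚 hX F k' ⟶ cL 𝓚 hX F k) (W : Y.Opens)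
    (x : HU ((toAbS ((completionAlong X 𝓚).Osh hX)).obj (cL 𝓚 hX F k')) n
      (pre ((cφ f 𝓘 𝓚 hpc : Hom _ _).app 0).base (pre (completionToX Y 𝓘 0).base W))) :
    (cP f 𝓘 𝓚 hpc hX F n k' W x).comp (Ext.mk₀ ((toAbS X.sheaf).map
        ((toSchemeMor (completionAlong X 𝓚) hX (completionToX X 𝓚) (completionToX_comm X 𝓚)).push.map lam))) (add_zero n) =
      cP f 𝓘 𝓚 hpc hX F n k W (x.comp (Ext.mk₀ ((toAbS ((completionAlong X 𝓚).Osh hX)).map lam)) (add_zero n)) :=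
  haveI := preservesHomology_iX 𝓚 hX
  sqP_natural (completionToX X 𝓚 0).base
    (schSharp (completionAlong X 𝓚) hX (completionToX X 𝓚) (completionToX_comm X 𝓚)) n f.base
    ((cφ f 𝓘 𝓚 hpc : Hom _ _).app 0).base (completionToX Y 𝓘 0).base (pre_eq f 𝓘 𝓚 hpc) lam W x

theorem th_natural_cL {k k' : ℕ} (lam : cL 𝓚 hX F k' ⟶ cL 𝓚 hX F k) (W : Y.Opens)
    (x : HU ((toAbS ((completionAlong X 𝓚).Osh hX)).obj (cL 𝓚 hX F k')) n
      (pre ((cφ f 𝓘 𝓚 hpc : Hom _ _).app 0).base (pre (completionToX Y 𝓘 0).base W))) :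
    ((RpushF (cφ f 𝓘 𝓚 hpc) hX hY n).map lam).val.app (op (pre (completionToX Y 𝓘 0).base W))
        (th (cφ f 𝓘 𝓚 hpc) (hlocX 𝓚 hX) hY n (cL 𝓚 hX F k') (pre (completionToX Y 𝓘 0).base W) x) =
      th (cφ f 𝓘 𝓚 hpc) (hlocX 𝓚 hX) hY n (cL 𝓚 hX F k) (pre (completionToX Y 𝓘 0).base W)
        (x.comp (Ext.mk₀ ((toAbS ((completionAlong X 𝓚).Osh hX)).map lam)) (add_zero n)) :=
  FRpushLib.theta_natural _ _ n _ (pre (completionToX Y 𝓘 0).base W) lam x

variable (ρ : (toSchemeMor (completionAlong Y 𝓘) hY (completionToX Y 𝓘) (completionToX_comm Y 𝓘)).pull.obj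
    ((Coh.Rpush f n).obj F) ⟶ cLim f 𝓘 𝓚 hpc hX hY F n)

/-- The comparison on sections over the preimage of an open. -/
abbrev cH (W : Y.Opens) : MSec ((Coh.Rpush f n).obj F) W →+
    MSec (cLim f 𝓘 𝓚 hpc hX hY F n) (pre (completionToX Y 𝓘 0).base W) :=
  (ρ.val.app (op (pre (completionToX Y 𝓘 0).base W))).hom.toAddMonoidHom.comp
    (((rm (completionToX Y 𝓘 0).base
      (schSharp (completionAlong Y 𝓘) hY (completionToX Y 𝓘) (completionToX_comm Y 𝓘))).adj.unit.app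
        ((Coh.Rpush f n).obj F)).val.app (op W)).hom.toAddMonoidHom

theorem cH_smul (W : Y.Opens) (b : Γ(Y, W)) (x : MSec ((Coh.Rpush f n).obj F) W) :
    cH f 𝓘 𝓚 hpc hX hY F n ρ W (b • x) = cS Y 𝓘 hY W b • cH f 𝓘 𝓚 hpc hX hY F n ρ W x :=
  (congrArg (ρ.val.app (op (pre (completionToX Y 𝓘 0).base W)))
    (map_smul (((rm (completionToX Y 𝓘 0).base
      (schSharp (completionAlong Y 𝓘) hY (completionToX Y 𝓘) (completionToX_comm Y 𝓘))).adj.unit.app
        ((Coh.Rpush f n).obj F)).val.app (op W)).hom b x)).trans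
    (map_smul (ρ.val.app (op (pre (completionToX Y 𝓘 0).base W))).hom (cS Y 𝓘 hY W b) _)

/-- The values of the comparison on classes. -/
def RhoSpec : Prop :=
  ∀ (W : Y.Opens), IsAffineOpen W → ∀ (k : ℕ) (y : HU ((toAbS X.sheaf).obj F) n (pre f.base W))
    (x : HU ((toAbS ((completionAlong X 𝓚).Osh hX)).obj (cL 𝓚 hX F k)) n
      (pre ((cφ f 𝓘 𝓚 hpc : Hom _ _).app 0).base (pre (completionToX Y 𝓘 0).base W))),
    cP f 𝓘 𝓚 hpc hX F n k W x = y.comp (Ext.mk₀ ((toAbS X.sheaf).map (cη 𝓚 hX F k))) (add_zero n) →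
    cPr f 𝓘 𝓚 hpc hX hY F n k W
        (cH f 𝓘 𝓚 hpc hX hY F n ρ W (theta (OX := X.sheaf) (OY := Y.sheaf) f.base ⟨f.c⟩ n F W y)) =
      th (cφ f 𝓘 𝓚 hpc) (hlocX 𝓚 hX) hY n (cL 𝓚 hX F k) (pre (completionToX Y 𝓘 0).base W) x

variable (hρ : RhoSpec f 𝓘 𝓚 hpc hX hY F n ρ) {W : Y.Opens} (hW : IsAffineOpen W)

include h𝓚 hF hρ hW in
/-- Sections killed on a level are deep. -/
theorem exists_cH_ker : ∃ c : ℕ, ∀ k (x : MSec ((Coh.Rpush f n).obj F) W),
    cPr f 𝓘 𝓚 hpc hX hY F n k W (cH f 𝓘 𝓚 hpc hX hY F n ρ W x) = 0 →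
    x ∈ (𝓘.ideal ⟨W, hW⟩ ^ (k - c) • ⊤ : Submodule Γ(Y, W) (MSec ((Coh.Rpush f n).obj F) W)) := by
  haveI : Coh.IsQCoh F := hF.1
  obtain ⟨c, hc⟩ := exists_ker_deep f 𝓘 𝓚 h𝓚 hX F hF n hW
  refine ⟨c, fun k x hx => ?_⟩
  obtain ⟨y, rfl⟩ := (theta_scheme_bijective f F n hW).2 x
  haveI := preservesHomology_iX 𝓚 hX
  obtain ⟨x', hx'⟩ := (sqP_bijective (completionToX X 𝓚 0).base
    (schSharp (completionAlong X 𝓚) hX (completionToX X 𝓚) (completionToX_comm X 𝓚)) n f.base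
    ((cφ f 𝓘 𝓚 hpc : Hom _ _).app 0).base (completionToX Y 𝓘 0).base (pre_eq f 𝓘 𝓚 hpc) (cL 𝓚 hX F k) W).2
    (y.comp (Ext.mk₀ ((toAbS X.sheaf).map (cη 𝓚 hX F k))) (add_zero n))
  have h0 : x' = 0 := (th_cL_bijective f 𝓘 𝓚 h𝓚 hpc hX hY F hF n hW k).1
    (((hρ W hW k y x' hx').symm.trans hx).trans (map_zero _).symm)
  refine hc k y (hx'.symm.trans ?_)
  rw [h0]
  exact map_zero _

end FRpushCmplLib

end
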