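import Groth.Agent.FRpushCmplLib.Morph
import Groth.Agent.FormalCohLib.QuotK
import Groth.Agent.FormalCohLib.Sec
import Groth.Agent.RGFlatLib.Local
import Groth.Agent.CohGenLib.Localization

/-!
# The levels over the preimage of an affine open are the reductions
-/

set_option autoImplicit false
set_option linter.style.haveILetI false
set_option linter.unusedSectionVars false
set_option maxHeartbeats 800000
set_option synthInstance.maxHeartbeats 80000

universe u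

open CategoryTheory CategoryTheory.Limits AlgebraicGeometry TopologicalSpace Opposite FSch

noncomputable section

namespace FRpushCmplLib

/-- Multiples of an image of an ideal, as an additive closure. -/
theorem mem_map_smul_top {A R M : Type*} [CommRing A] [CommRing R] [AddCommGroup M] [Module R M] (ρ : A →+* R)
    (J : Ideal A) (x : M) :
    x ∈ (J.map ρ • ⊤ : Submodule R M) ↔ x ∈ AddSubgroup.closure {y | ∃ a ∈ J, ∃ m : M, y = ρ a • m} := by
  refine ⟨fun hx => ?_, fun hx => ?_⟩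
  · refine Submodule.smul_induction_on hx (fun r hr m _ => ?_) fun _ _ => add_mem
    clear hx
    rename_i hm
    clear hm
    induction hr using Submodule.span_induction generalizing m with
    | mem r hr =>
      obtain ⟨a, ha, rfl⟩ := hr
      exact AddSubgroup.subset_closure ⟨a, ha, m, rfl⟩
    | zero => rw [zero_smul]; exact zero_mem _
    | add r r' _ _ hr hr' => rw [add_smul]; exact add_mem (hr m) (hr' m)
    | smul c r _ hr => rw [smul_eq_mul, mul_comm, mul_smul]; exact hr _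
  · induction hx using AddSubgroup.closure_induction with
    | mem y hy =>
      obtain ⟨a, ha, m, rfl⟩ := hy
      exact Submodule.smul_mem_smul (Ideal.mem_map_of_mem ρ ha) trivial
    | zero => exact zero_mem _
    | add a b _ _ ha hb => exact add_mem ha hb
    | neg a _ ha => exact neg_mem ha

theorem powIdeal {X : Scheme.{u}} (K : X.IdealSheafData) (m : ℕ) (U : X.affineOpens) : (K ^ m).ideal U = K.ideal U ^ m := by
  rw [Scheme.IdealSheafData.ideal_pow]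
  rfl

variable {X Y : Scheme.{u}} [IsNoetherian X] [IsNoetherian Y] (f : X ⟶ Y) [IsProper f] (𝓘 : Y.IdealSheafData)
  (𝓚 : X.IdealSheafData) (h𝓚 : 𝓚 = 𝓘.comap f) (hX : (completionAlong X 𝓚).IsFormal)
  (F : X.Modules) [Coh.IsQCoh F] (k : ℕ)

/-- The map to a level, on sections over an affine open, is onto with kernel the multiples of the ideal. -/
theorem app_cη_kernel {U : X.Opens} (hU : IsAffineOpen U) :
    Function.Surjective ((cη 𝓚 hX F k).app U) ∧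
      ∀ x, (cη 𝓚 hX F k).app U x = 0 ↔ x ∈ (𝓚.ideal ⟨U, hU⟩ ^ (k + 1) • ⊤ : Submodule Γ(X, U) Γ(F, U)) := by
  obtain ⟨θ, hθ⟩ := FModLib.eta_eq_unit hX (completionToX X 𝓚) (completionToX_comm X 𝓚) F k
  haveI := FModLib.isIso_schPushCompare hX (completionToX X 𝓚) (completionToX_comm X 𝓚) k
  let e := (Scheme.Modules.pushforward (completionToX X 𝓚 k)).mapIso θ ≪≫
    (asIso (schPushCompare (completionAlong X 𝓚) hX (completionToX X 𝓚) (completionToX_comm X 𝓚) k)).app _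
  have he : cη 𝓚 hX F k = FormalCohLib.quotKπ (𝓚 ^ (k + 1)) F ≫ e.hom := hθ
  rw [he]
  have hb : Function.Bijective (e.hom.app U) := ConcreteCategory.bijective_of_isIso (e.hom.app U)
  refine ⟨hb.2.comp (FormalCohLib.app_quotKπ_surjective (𝓚 ^ (k + 1)) F hU), fun x => ?_⟩
  rw [← powIdeal 𝓚 (k + 1) ⟨U, hU⟩, ← FormalCohLib.app_quotKπ_eq_zero (𝓚 ^ (k + 1)) F hU x]
  exact ⟨fun h => hb.1 (h.trans (map_zero _).symm), fun h => (congrArg (e.hom.app U) h).trans (map_zero _)⟩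

variable {W : Y.Opens} (hW : IsAffineOpen W)

include h𝓚 in
/-- The same, with the ideal of the base. -/
theorem app_cη_kernel_base {U : X.Opens} (hU : IsAffineOpen U) (hUW : U ≤ f ⁻¹ᵁ W) :
    Function.Surjective ((cη 𝓚 hX F k).app U) ∧
      ∀ x, (cη 𝓚 hX F k).app U x = 0 ↔
        x ∈ AddSubgroup.closure {y | ∃ a ∈ 𝓘.ideal ⟨W, hW⟩ ^ (k + 1), ∃ m : Γ(F, U), y = f.appLE W U hUW a • m} := by
  refine ⟨(app_cη_kernel 𝓚 hX F k hU).1, fun x => ((app_cη_kernel 𝓚 hX F k hU).2 x).trans ?_⟩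
  have e : 𝓚.ideal ⟨U, hU⟩ ^ (k + 1) = (𝓘.ideal ⟨W, hW⟩ ^ (k + 1)).map (f.appLE W U hUW).hom := by
    rw [Ideal.map_pow, h𝓚, RGFlatLib.ideal_comap_appLE f 𝓘 hW hU hUW]
  rw [e]
  exact mem_map_smul_top _ _ x

/-- The preimage as a scheme over the sections of the affine open. -/
def overW : ((f ⁻¹ᵁ W : X.Opens) : Scheme.{u}).Over (Spec (CommRingCat.of Γ(Y, W))) :=
  ⟨f.resLE W (f ⁻¹ᵁ W) le_rfl ≫ hW.isoSpec.hom⟩

theorem toGlobal_overW (a : Γ(Y, W)) :
    Coh.toGlobal (f.resLE W (f ⁻¹ᵁ W) le_rfl ≫ hW.isoSpec.hom) a = (f ⁻¹ᵁ W).topIso.inv (f.appLE W (f ⁻¹ᵁ W) le_rfl a) := by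
  show (f.resLE W (f ⁻¹ᵁ W) le_rfl ≫ hW.isoSpec.hom).appTop ((Scheme.ΓSpecIso _).inv a) = _
  rw [Scheme.Hom.comp_appTop, hW.isoSpec_hom_appTop]
  show (f.resLE W (f ⁻¹ᵁ W) le_rfl).appTop (W.topIso.inv ((Scheme.ΓSpecIso _).hom ((Scheme.ΓSpecIso _).inv a))) = _
  rw [Iso.inv_hom_id_apply]
  show ((f.resLE W (f ⁻¹ᵁ W) le_rfl).app ⊤) _ = _
  rw [Scheme.Hom.resLE_app_top]
  exact congrArg (fun z => (f ⁻¹ᵁ W).topIso.inv (f.appLE W (f ⁻¹ᵁ W) le_rfl z)) (Iso.inv_hom_id_apply W.topIso a)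

theorem image_le_preimage (O : ((f ⁻¹ᵁ W : X.Opens) : Scheme.{u}).Opens) : (f ⁻¹ᵁ W).ι ''ᵁ O ≤ f ⁻¹ᵁ W :=
  (Scheme.Hom.image_mono _ le_top).trans (f ⁻¹ᵁ W).ι_image_top.le

theorem rhoA_overW (O : ((f ⁻¹ᵁ W : X.Opens) : Scheme.{u}).Opens) (a : Γ(Y, W)) :
    letI := overW f hW
    ((f ⁻¹ᵁ W).ι.appIso O).inv (FormalLib.rhoA Γ(Y, W) O a) =
      f.appLE W ((f ⁻¹ᵁ W).ι ''ᵁ O) (image_le_preimage f O) a := by
  letI := overW f hW
  rw [Scheme.Opens.ι_appIso, Iso.refl_inv]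
  show ((f ⁻¹ᵁ W : X.Opens) : Scheme.{u}).presheaf.map (homOfLE (le_top : O ≤ ⊤)).op
    (Coh.toGlobal (f.resLE W (f ⁻¹ᵁ W) le_rfl ≫ hW.isoSpec.hom) a) = _
  rw [toGlobal_overW f hW]
  show ((f ⁻¹ᵁ W : X.Opens) : Scheme.{u}).presheaf.map _ (X.presheaf.map _ (f.appLE W (f ⁻¹ᵁ W) le_rfl a)) = _
  refine (X.presheaf.map_comp_apply _ _ _).symm.trans ?_
  refine Eq.trans ?_ (congr($(Scheme.Hom.appLE_map f (e := (le_rfl : f ⁻¹ᵁ W ≤ f ⁻¹ᵁ W))
    (homOfLE (image_le_preimage f O)).op) a))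
  exact congr($(congrArg X.presheaf.map (Subsingleton.elim _ _)) _)

include h𝓚 hW in
/-- **The restricted levels are the reductions.** -/
theorem exists_alpha :
    letI := overW f hW
    ∃ α : Formal.modPow (X := ((f ⁻¹ᵁ W : X.Opens) : Scheme.{u})) (𝓘.ideal ⟨W, hW⟩) (k + 1) (F.restrict (f ⁻¹ᵁ W).ι) ≅
        (cQ 𝓚 hX F k).restrict (f ⁻¹ᵁ W).ι,
      Formal.modPowπ (𝓘.ideal ⟨W, hW⟩) (k + 1) (F.restrict (f ⁻¹ᵁ W).ι) ≫ α.hom =
        (Scheme.Modules.restrictFunctor (f ⁻¹ᵁ W).ι).map (cη 𝓚 hX F k) := by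
  letI := overW f hW
  let V : Scheme.{u} := (f ⁻¹ᵁ W : X.Opens)
  let j : V ⟶ X := (f ⁻¹ᵁ W).ι
  let I := 𝓘.ideal ⟨W, hW⟩
  let F' := F.restrict j
  let Q' := (cQ 𝓚 hX F k).restrict j
  let q : F' ⟶ Q' := (Scheme.Modules.restrictFunctor j).map (cη 𝓚 hX F k)
  haveI : Coh.IsQCoh F' := Scheme.Modules.isQuasicoherent_restrictFunctor j F
  haveI : IsLocallyNoetherian V := inferInstance
  haveI : CompactSpace V := isCompact_iff_compactSpace.mp (TopologicalSpace.NoetherianSpace.isCompact _)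
  haveI : AlgebraicGeometry.IsNoetherian V := {}
  have hset : ∀ (O : V.Opens), {y : Γ(F', O) | ∃ a ∈ I ^ (k + 1), ∃ m : Γ(F', O), y = FormalLib.rhoA Γ(Y, W) O a • m} =
      {y : Γ(F, j ''ᵁ O) | ∃ a ∈ I ^ (k + 1), ∃ m : Γ(F, j ''ᵁ O), y = f.appLE W (j ''ᵁ O) (image_le_preimage f O) a • m} := fun O => by
    have h : ∀ a (m : Γ(F', O)), FormalLib.rhoA Γ(Y, W) O a • m =
        (show Γ(F', O) from f.appLE W (j ''ᵁ O) (image_le_preimage f O) a • (show Γ(F, j ''ᵁ O) from m)) := fun a m =>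
      congrArg (fun c : Γ(X, j ''ᵁ O) => c • (show Γ(F, j ''ᵁ O) from m)) (rhoA_overW f hW O a)
    ext y
    exact ⟨fun ⟨a, ha, m, hm⟩ => ⟨a, ha, m, hm.trans (h a m)⟩, fun ⟨a, ha, m, hm⟩ => ⟨a, ha, m, Eq.trans hm (h a m).symm⟩⟩
  have hker : ∀ (O : V.Opens), IsAffineOpen O → Function.Surjective (q.app O) ∧
      ∀ x, q.app O x = 0 ↔ x ∈ (FormalCohLib.idU I O ^ (k + 1) • ⊤ : Submodule Γ(V, O) Γ(F', O)) := fun O hO => by
    obtain ⟨h1, h2⟩ := app_cη_kernel_base f 𝓘 𝓚 h𝓚 hX F k hW (hO.image_of_isOpenImmersion j) (image_le_preimage f O)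
    refine ⟨h1, fun x => ?_⟩
    rw [FormalCohLib.idU_pow, mem_map_smul_top]
    rw [hset O]
    exact h2 x
  have hzero : Formal.smulFamily (I ^ (k + 1)) F' ≫ q = 0 := by
    refine FormalProLib.smulFamily_comp _ fun b hb => ?_
    refine hom_ext_basis (O := V.sheaf) (Formal.smulMod Γ(Y, W) F' b ≫ q) 0 V.isBasis_affineOpens fun O hO x => ?_
    refine ((hker O hO).2 _).2 ?_
    rw [FormalCohLib.idU_pow]
    exact Submodule.smul_mem_smul (Ideal.mem_map_of_mem _ hb) trivial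
  let φ := cokernel.desc (Formal.smulFamily (I ^ (k + 1)) F') q hzero
  have hφ : Formal.modPowπ I (k + 1) F' ≫ φ = q := cokernel.π_desc _ _ _
  haveI : IsIso φ := by
    refine QCohLib.isIso_of_bijective_affine _ fun O hO => ?_
    have hs := FormalCohLib.app_modPowπ_surjective I F' (k + 1) hO
    have hcomp : ∀ z, φ.app O ((Formal.modPowπ I (k + 1) F').app O z) = q.app O z := fun z =>
      congr($(congrArg (fun a : F' ⟶ Q' => a.app O) hφ) z)
    refine ⟨(injective_iff_map_eq_zero _).2 fun y hy => ?_, fun y => ?_⟩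
    · obtain ⟨z, rfl⟩ := hs y
      exact (FormalCohLib.app_modPowπ_eq_zero I F' (k + 1) hO z).2 (((hker O hO).2 z).1 ((hcomp z).symm.trans hy))
    · obtain ⟨z, rfl⟩ := (hker O hO).1 y
      exact ⟨_, hcomp z⟩
  exact ⟨@asIso _ _ _ _ φ ‹_›, hφ⟩

end FRpushCmplLib

end
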