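import Groth.Agent.FRpushCmplLib.Hom

/-!
# Classes on sections along a closed embedding
-/

set_option autoImplicit false
set_option linter.style.haveILetI false
set_option linter.unusedSectionVars false
set_option maxHeartbeats 800000
set_option synthInstance.maxHeartbeats 80000

universe u

open CategoryTheory CategoryTheory.Limits TopologicalSpace Opposite CategoryTheory.Abelian
open QCohLib (AbSh HU)
open FRpushLib (toAbS Res rm pre resOf piOf theta app_injective)

noncomputable section

namespace FRpushCmplLib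

variable {Z X : TopCat.{u}} {OZ : Sheaf (Opens.grothendieckTopology Z) CommRingCat.{u}}
  {OX : Sheaf (Opens.grothendieckTopology X) CommRingCat.{u}} (gi : Z ⟶ X)
  (si : OX ⟶ ((Opens.map gi).sheafPushforwardContinuous CommRingCat.{u} (Opens.grothendieckTopology X)
    (Opens.grothendieckTopology Z)).obj OZ)
  [(rm gi si).push.PreservesHomology] [HasInjectiveResolutions (ModSite.Mod OZ)] (M : ModSite.Mod OZ)

/-- The direct image of the chosen resolution. -/
abbrev kx : CochainComplex (ModSite.Mod OX) ℕ := pcx gi si M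

/-- Its augmentation. -/
abbrev kι : (rm gi si).push.obj M ⟶ (kx gi si M).X 0 := (rm gi si).push.map ((injectiveResolution M).ι.f 0)

theorem kι_d : kι gi si M ≫ (kx gi si M).d 0 1 = 0 :=
  ((rm gi si).push.map_comp _ _).symm.trans
    ((congrArg (rm gi si).push.map (injectiveResolution M).ι_f_zero_comp_complex_d).trans ((rm gi si).push.map_zero _ _))

theorem mono_kι : Mono (kι gi si M) :=
  @Functor.map_mono _ _ _ _ (rm gi si).push inferInstance _ _ ((injectiveResolution M).ι.f 0)
    (mono_of_isLimit_fork (injectiveResolution M).isLimitKernelFork)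

theorem exact_kι : (ShortComplex.mk (kι gi si M) ((kx gi si M).d 0 1) (kι_d gi si M)).Exact :=
  (injectiveResolution M).exact₀.map (rm gi si).push

theorem exact_kx (n : ℕ) :
    (ShortComplex.mk ((kx gi si M).d n (n + 1)) ((kx gi si M).d (n + 1) (n + 2)) ((kx gi si M).d_comp_d _ _ _)).Exact :=
  ((injectiveResolution M).exact_succ n).map (rm gi si).push

/-- The resolution of the direct image. -/
def pushRes : Res ((toAbS OX).obj ((rm gi si).push.obj M)) where
  K := ((toAbS OX).mapHomologicalComplex _).obj (kx gi si M)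
  ι := (toAbS OX).map (kι gi si M)
  comp := ((toAbS OX).map_comp _ _).symm.trans ((congrArg (toAbS OX).map (kι_d gi si M)).trans ((toAbS OX).map_zero _ _))
  mono := @Functor.map_mono _ _ _ _ (toAbS OX) inferInstance _ _ (kι gi si M) (mono_kι gi si M)
  exact₀ := (exact_kι gi si M).map (toAbS OX)
  exact n := (exact_kx gi si M n).map (toAbS OX)
  ac n m U := FRpushLib.subsingleton_HU_push_injective gi si _ m U

variable (q : ℕ) (V : Opens X)

/-- A cocycle on the preimage as one of the direct image. -/
theorem exists_pushZ (z : ((resOf M).Z q).obj.obj (op (pre gi V))) :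
    ∃ z' : ((pushRes gi si M).Z q).obj.obj (op V),
      (kernel.ι ((pushRes gi si M).K.d q (q + 1))).hom.app (op V) z' =
        (show ((pushRes gi si M).K.X q).obj.obj (op V) from
          (kernel.ι ((resOf M).K.d q (q + 1))).hom.app (op (pre gi V)) z) :=
  FRpushLib.exists_kernel_sec _ _ (congr($(congrArg (fun φ : (resOf M).Z q ⟶ (resOf M).K.X (q + 1) =>
    φ.hom.app (op (pre gi V))) (kernel.condition ((resOf M).K.d q (q + 1)))) z))

/-- The same, chosen additively. -/
def pushZ : ((resOf M).Z q).obj.obj (op (pre gi V)) →+ ((pushRes gi si M).Z q).obj.obj (op V) where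
  toFun z := (exists_pushZ gi si M q V z).choose
  map_zero' := app_injective (kernel.ι ((pushRes gi si M).K.d q (q + 1))) V
    (((exists_pushZ gi si M q V 0).choose_spec.trans (map_zero _)).trans (map_zero _).symm)
  map_add' a b := app_injective (kernel.ι ((pushRes gi si M).K.d q (q + 1))) V
    (((exists_pushZ gi si M q V (a + b)).choose_spec.trans (map_add _ _ _)).trans
      (((map_add ((kernel.ι ((pushRes gi si M).K.d q (q + 1))).hom.app (op V)).hom _ _).trans
        (congrArg₂ (· + ·) (exists_pushZ gi si M q V a).choose_spec (exists_pushZ gi si M q V b).choose_spec))).symm)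

theorem ι_pushZ (z : ((resOf M).Z q).obj.obj (op (pre gi V))) :
    (kernel.ι ((pushRes gi si M).K.d q (q + 1))).hom.app (op V) (pushZ gi si M q V z) =
      (show ((pushRes gi si M).K.X q).obj.obj (op V) from
        (kernel.ι ((resOf M).K.d q (q + 1))).hom.app (op (pre gi V)) z) :=
  (exists_pushZ gi si M q V z).choose_spec

theorem cls_pushZ_eq_zero_iff (z : ((resOf M).Z q).obj.obj (op (pre gi V))) :
    (pushRes gi si M).cls V q (pushZ gi si M q V z) = 0 ↔ (resOf M).cls (pre gi V) q z = 0 := by
  match q, z with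
  | 0, z =>
    refine ⟨fun h => ?_, fun h => ?_⟩
    · have h1 : pushZ gi si M 0 V z = 0 := (pushRes gi si M).cls_zero_injective V (h.trans (map_zero _).symm)
      rw [app_injective (kernel.ι ((resOf M).K.d 0 1)) (pre gi V) ((((ι_pushZ gi si M 0 V z).symm.trans
        ((congrArg _ h1).trans (map_zero _))) : (kernel.ι ((resOf M).K.d 0 1)).hom.app (op (pre gi V)) z = 0).trans
          (map_zero _).symm), map_zero]
    · rw [(resOf M).cls_zero_injective (pre gi V) (h.trans (map_zero _).symm), map_zero, map_zero]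
  | k + 1, z =>
    rw [(pushRes gi si M).cls_succ_eq_zero_iff, (resOf M).cls_succ_eq_zero_iff]
    exact ⟨fun ⟨t, ht⟩ => ⟨t, ht.trans (ι_pushZ gi si M (k + 1) V z)⟩,
      fun ⟨t, ht⟩ => ⟨t, Eq.trans ht (ι_pushZ gi si M (k + 1) V z).symm⟩⟩

/-- **Cohomology of the preimage as cohomology of the direct image.** -/
def pushU : HU ((toAbS OZ).obj M) q (pre gi V) →+ HU ((toAbS OX).obj ((rm gi si).push.obj M)) q V :=
  ((resOf M).cls (pre gi V) q).liftOfRightInverse (Function.surjInv ((resOf M).cls_surjective (pre gi V) q))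
    (Function.rightInverse_surjInv _) ⟨((pushRes gi si M).cls V q).comp (pushZ gi si M q V),
      fun z hz => (cls_pushZ_eq_zero_iff gi si M q V z).2 hz⟩

theorem pushU_cls (z : ((resOf M).Z q).obj.obj (op (pre gi V))) :
    pushU gi si M q V ((resOf M).cls (pre gi V) q z) = (pushRes gi si M).cls V q (pushZ gi si M q V z) :=
  AddMonoidHom.liftOfRightInverse_comp_apply _ _ _ _ z

theorem pushU_bijective : Function.Bijective (pushU gi si M q V) := by
  refine ⟨(injective_iff_map_eq_zero _).2 fun x hx => ?_, fun y => ?_⟩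
  · obtain ⟨z, rfl⟩ := (resOf M).cls_surjective (pre gi V) q x
    rw [pushU_cls] at hx
    exact (cls_pushZ_eq_zero_iff gi si M q V z).1 hx
  · obtain ⟨w, rfl⟩ := (pushRes gi si M).cls_surjective V q y
    obtain ⟨z, hz⟩ := FRpushLib.exists_kernel_sec ((resOf M).K.d q (q + 1))
      (show ((resOf M).K.X q).obj.obj (op (pre gi V)) from
        (kernel.ι ((pushRes gi si M).K.d q (q + 1))).hom.app (op V) w)
      (congr($(congrArg (fun φ : (pushRes gi si M).Z q ⟶ (pushRes gi si M).K.X (q + 1) =>
        φ.hom.app (op V)) (kernel.condition ((pushRes gi si M).K.d q (q + 1)))) w))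
    refine ⟨(resOf M).cls (pre gi V) q z, (pushU_cls gi si M q V z).trans (congrArg _ ?_)⟩
    exact app_injective (kernel.ι ((pushRes gi si M).K.d q (q + 1))) V ((ι_pushZ gi si M q V z).trans hz)

variable {M}

/-- **Naturality.** -/
theorem pushU_natural {N : ModSite.Mod OZ} (f : M ⟶ N) (x : HU ((toAbS OZ).obj M) q (pre gi V)) :
    (pushU gi si M q V x).comp (Ext.mk₀ ((toAbS OX).map ((rm gi si).push.map f))) (add_zero q) =
      pushU gi si N q V (x.comp (Ext.mk₀ ((toAbS OZ).map f)) (add_zero q)) := by
  obtain ⟨z, rfl⟩ := (resOf M).cls_surjective (pre gi V) q x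
  let a := Res.Hom.ofInjective f (injectiveResolution M) (injectiveResolution N)
  let b : Res.Hom (pushRes gi si M) (pushRes gi si N) ((toAbS OX).map ((rm gi si).push.map f)) :=
    { φ := ((toAbS OX).mapHomologicalComplex _).map (((rm gi si).push.mapHomologicalComplex _).map
        (InjectiveResolution.desc f (injectiveResolution N) (injectiveResolution M)))
      w := ((toAbS OX).map_comp _ _).symm.trans ((congrArg (toAbS OX).map (((rm gi si).push.map_comp _ _).symm.trans
        ((congrArg (rm gi si).push.map (InjectiveResolution.desc_commutes_zero f _ _)).trans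
          ((rm gi si).push.map_comp _ _)))).trans ((toAbS OX).map_comp _ _)) }
  rw [pushU_cls, b.cls_natural, a.cls_natural, pushU_cls]
  refine congrArg _ (app_injective (kernel.ι ((pushRes gi si N).K.d q (q + 1))) V ?_)
  have e1 : b.zMap q ≫ kernel.ι ((pushRes gi si N).K.d q (q + 1)) =
      kernel.ι ((pushRes gi si M).K.d q (q + 1)) ≫ b.φ.f q := by simp
  have e2 : a.zMap q ≫ kernel.ι ((resOf N).K.d q (q + 1)) = kernel.ι ((resOf M).K.d q (q + 1)) ≫ a.φ.f q := by simp
  refine (congr($(congrArg (fun φ : (pushRes gi si M).Z q ⟶ (pushRes gi si N).K.X q => φ.hom.app (op V)) e1) _)).trans ?_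
  refine Eq.trans ?_ (ι_pushZ gi si N q V _).symm
  refine (congrArg ((b.φ.f q).hom.app (op V)) (ι_pushZ gi si M q V z)).trans ?_
  exact (congr($(congrArg (fun φ : (resOf M).Z q ⟶ (resOf N).K.X q => φ.hom.app (op (pre gi V))) e2) z)).symm

variable {Y₀ Y : TopCat.{u}} {O₀ : Sheaf (Opens.grothendieckTopology Y₀) CommRingCat.{u}}
  {OY : Sheaf (Opens.grothendieckTopology Y) CommRingCat.{u}} (gf : X ⟶ Y)
  (sf : OY ⟶ ((Opens.map gf).sheafPushforwardContinuous CommRingCat.{u} (Opens.grothendieckTopology Y)
    (Opens.grothendieckTopology X)).obj OX) (gp : Z ⟶ Y₀)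
  (sp : O₀ ⟶ ((Opens.map gp).sheafPushforwardContinuous CommRingCat.{u} (Opens.grothendieckTopology Y₀)
    (Opens.grothendieckTopology Z)).obj OZ) (gj : Y₀ ⟶ Y)
  (sj : OY ⟶ ((Opens.map gj).sheafPushforwardContinuous CommRingCat.{u} (Opens.grothendieckTopology Y)
    (Opens.grothendieckTopology Y₀)).obj O₀)
  [(rm gj sj).push.PreservesHomology] [HasInjectiveResolutions (ModSite.Mod OX)]
  (β : (rm gi si).push ⋙ (rm gf sf).push ≅ (rm gp sp).push ⋙ (rm gj sj).push)
  (hpre : ∀ W : Opens Y, pre gp (pre gj W) = pre gi (pre gf W))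

/-- The common homology of the square. -/
abbrev edgeD (M : ModSite.Mod OZ) : ModSite.Mod OY :=
  (((rm gf sf).push.mapHomologicalComplex _).obj (kx gi si M)).homology q

/-- The two complexes of the square. -/
def edgeCx (M : ModSite.Mod OZ) : ((rm gf sf).push.mapHomologicalComplex _).obj (kx gi si M) ≅
    ((rm gj sj).push.mapHomologicalComplex _).obj (pcx gp sp M) :=
  HomologicalComplex.Hom.isoOfComponents (fun n => β.app ((injectiveResolution M).cocomplex.X n))
    (fun n n' _ => (β.hom.naturality ((injectiveResolution M).cocomplex.d n n')).symm)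

/-- To the direct image of the higher direct image. -/
def edgeB (M : ModSite.Mod OZ) : edgeD gi si q gf sf M ≅ (rm gj sj).push.obj (((rm gp sp).Rpush q).obj M) :=
  HomologicalComplex.homologyMapIso (edgeCx gi si gf sf gp sp gj sj β M) q ≪≫
    ((pcx gp sp M).sc q).mapHomologyIso (rm gj sj).push ≪≫
    (rm gj sj).push.mapIso ((injectiveResolution M).isoRightDerivedObj (rm gp sp).push q).symm

/-- A section killed by the differential is a cycle. -/
theorem exists_cycle_sec {Y : TopCat.{u}} {OY : Sheaf (Opens.grothendieckTopology Y) CommRingCat.{u}}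
    (K : CochainComplex (ModSite.Mod OY) ℕ) (q : ℕ) (W : Opens Y) (s : ((toAbS OY).obj (K.X q)).obj.obj (op W))
    (hs : ((toAbS OY).map (K.d q (q + 1))).hom.app (op W) s = 0) :
    ∃ c : ((toAbS OY).obj (K.cycles q)).obj.obj (op W), ((toAbS OY).map (K.iCycles q)).hom.app (op W) c = s := by
  obtain ⟨c, hc⟩ := FRpushLib.exists_kernel_sec ((toAbS OY).map (K.d q (q + 1))) s hs
  let hl := isLimitForkMapOfIsLimit' (toAbS OY) (K.iCycles_d q (q + 1)) (K.cyclesIsKernel q (q + 1) (by simp))
  have hk : kernel.ι ((toAbS OY).map (K.d q (q + 1))) ≫ (toAbS OY).map (K.d q (q + 1)) = 0 := kernel.condition _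
  refine ⟨(hl.lift (KernelFork.ofι _ hk)).hom.app (op W) c, Eq.trans ?_ hc⟩
  exact congr($(congrArg (fun φ : kernel ((toAbS OY).map (K.d q (q + 1))) ⟶ (toAbS OY).obj (K.X q) =>
    φ.hom.app (op W)) (hl.fac (KernelFork.ofι _ hk) WalkingParallelPair.zero)) c)

/-- To the higher direct image of the direct image, for a chosen comparison. -/
def edgeA (M : ModSite.Mod OZ) (a : kx gi si M ⟶ (injectiveResolution ((rm gi si).push.obj M)).cocomplex) :
    edgeD gi si q gf sf M ⟶ ((rm gf sf).Rpush q).obj ((rm gi si).push.obj M) :=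
  HomologicalComplex.homologyMap (((rm gf sf).push.mapHomologicalComplex _).map a) q ≫
    ((injectiveResolution ((rm gi si).push.obj M)).isoRightDerivedObj (rm gf sf).push q).inv

theorem edgeA_sec (M : ModSite.Mod OZ) (a : kx gi si M ⟶ (injectiveResolution ((rm gi si).push.obj M)).cocomplex)
    (ha : kι gi si M ≫ a.f 0 = (injectiveResolution ((rm gi si).push.obj M)).ι.f 0) (W : Opens Y)
    (c : ((toAbS OY).obj ((((rm gf sf).push.mapHomologicalComplex _).obj (kx gi si M)).cycles q)).obj.obj (op W))
    (z : ((resOf M).Z q).obj.obj (op (pre gi (pre gf W))))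
    (hc : ((toAbS OY).map ((((rm gf sf).push.mapHomologicalComplex _).obj (kx gi si M)).iCycles q)).hom.app (op W) c =
      (show ((toAbS OY).obj ((((rm gf sf).push.mapHomologicalComplex _).obj (kx gi si M)).X q)).obj.obj (op W) from
        (kernel.ι ((resOf M).K.d q (q + 1))).hom.app (op (pre gi (pre gf W))) z)) :
    ((toAbS OY).map (edgeA gi si q gf sf M a)).hom.app (op W)
        (((toAbS OY).map ((((rm gf sf).push.mapHomologicalComplex _).obj (kx gi si M)).homologyπ q)).hom.app (op W) c) =
      theta gf sf q _ W (pushU gi si M q (pre gf W) ((resOf M).cls (pre gi (pre gf W)) q z)) := by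
  rw [pushU_cls]
  let aR : Res.Hom (pushRes gi si M) (resOf ((rm gi si).push.obj M)) (𝟙 _) :=
    { φ := ((toAbS OX).mapHomologicalComplex _).map a
      w := ((toAbS OX).map_comp _ _).symm.trans ((congrArg (toAbS OX).map ha).trans (Category.id_comp _).symm) }
  rw [← Ext.comp_mk₀_id ((pushRes gi si M).cls (pre gf W) q (pushZ gi si M q (pre gf W) z)), aR.cls_natural,
    FRpushLib.theta_cls]
  let K' := ((rm gf sf).push.mapHomologicalComplex _).obj (kx gi si M)
  let L := injectiveResolution ((rm gi si).push.obj M)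
  let ψ := ((rm gf sf).push.mapHomologicalComplex (ComplexShape.up ℕ)).map a
  refine Eq.trans ?_ (piOf_eq gf sf q _ W (((toAbS OY).map (HomologicalComplex.cyclesMap ψ q)).hom.app (op W) c)
    ((aR.zMap q).hom.app (op (pre gf W)) (pushZ gi si M q (pre gf W) z)) ?_).symm
  · have e : K'.homologyπ q ≫ edgeA gi si q gf sf M a =
        HomologicalComplex.cyclesMap ψ q ≫ (pcx gf sf ((rm gi si).push.obj M)).homologyπ q ≫
          (L.isoRightDerivedObj (rm gf sf).push q).inv :=
      HomologicalComplex.homologyπ_naturality_assoc ψ q _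
    exact congr($(congrArg (fun φ : K'.cycles q ⟶ ((rm gf sf).Rpush q).obj ((rm gi si).push.obj M) =>
      ((toAbS OY).map φ).hom.app (op W)) e) c)
  · have e : HomologicalComplex.cyclesMap ψ q ≫ (pcx gf sf ((rm gi si).push.obj M)).iCycles q =
        K'.iCycles q ≫ ψ.f q := HomologicalComplex.cyclesMap_i ψ q
    refine (congr($(congrArg (fun φ : K'.cycles q ⟶ (pcx gf sf ((rm gi si).push.obj M)).X q =>
      ((toAbS OY).map φ).hom.app (op W)) e) c)).trans ?_
    refine (congrArg (((toAbS OY).map (ψ.f q)).hom.app (op W)) hc).trans ?_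
    have e2 : aR.zMap q ≫ kernel.ι ((resOf ((rm gi si).push.obj M)).K.d q (q + 1)) =
        kernel.ι ((pushRes gi si M).K.d q (q + 1)) ≫ aR.φ.f q := by simp
    refine Eq.trans ?_ (congr($(congrArg (fun φ : (pushRes gi si M).Z q ⟶ (resOf ((rm gi si).push.obj M)).K.X q =>
      φ.hom.app (op (pre gf W))) e2) (pushZ gi si M q (pre gf W) z))).symm
    exact congrArg ((aR.φ.f q).hom.app (op (pre gf W))) (ι_pushZ gi si M q (pre gf W) z).symm

theorem edgeB_sec (M : ModSite.Mod OZ) (W : Opens Y)
    (c : ((toAbS OY).obj ((((rm gf sf).push.mapHomologicalComplex _).obj (kx gi si M)).cycles q)).obj.obj (op W))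
    (z' : ((resOf M).Z q).obj.obj (op (pre gp (pre gj W))))
    (hc : ((toAbS OY).map ((β.app ((injectiveResolution M).cocomplex.X q)).hom)).hom.app (op W)
        (((toAbS OY).map ((((rm gf sf).push.mapHomologicalComplex _).obj (kx gi si M)).iCycles q)).hom.app (op W) c) =
      (show ((toAbS OY).obj ((rm gj sj).push.obj ((pcx gp sp M).X q))).obj.obj (op W) from
        (kernel.ι ((resOf M).K.d q (q + 1))).hom.app (op (pre gp (pre gj W))) z')) :
    ((toAbS OY).map (edgeB gi si q gf sf gp sp gj sj β M).hom).hom.app (op W)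
        (((toAbS OY).map ((((rm gf sf).push.mapHomologicalComplex _).obj (kx gi si M)).homologyπ q)).hom.app (op W) c) =
      theta gp sp q M (pre gj W) ((resOf M).cls (pre gp (pre gj W)) q z') := by
  rw [FRpushLib.theta_cls]
  let K' := ((rm gf sf).push.mapHomologicalComplex _).obj (kx gi si M)
  let ψ := (edgeCx gi si gf sf gp sp gj sj β M).hom
  let S' := (pcx gp sp M).sc q
  let c₁ : ((toAbS OY).obj ((((rm gj sj).push.mapHomologicalComplex _).obj (pcx gp sp M)).cycles q)).obj.obj (op W) :=
    ((toAbS OY).map (HomologicalComplex.cyclesMap ψ q)).hom.app (op W) c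
  let c₂ : ((toAbS O₀).obj ((pcx gp sp M).cycles q)).obj.obj (op (pre gj W)) :=
    ((toAbS OY).map (S'.mapCyclesIso (rm gj sj).push).hom).hom.app (op W) c₁
  refine Eq.trans ?_ (piOf_eq gp sp q M (pre gj W) c₂ z' ?_).symm
  · have e : K'.homologyπ q ≫ (edgeB gi si q gf sf gp sp gj sj β M).hom =
        HomologicalComplex.cyclesMap ψ q ≫ (S'.mapCyclesIso (rm gj sj).push).hom ≫
          (rm gj sj).push.map ((pcx gp sp M).homologyπ q ≫ ((injectiveResolution M).isoRightDerivedObj (rm gp sp).push q).inv) := by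
      refine (HomologicalComplex.homologyπ_naturality_assoc ψ q _).trans (congrArg (fun φ => HomologicalComplex.cyclesMap ψ q ≫ φ) ?_)
      exact (Category.assoc _ _ _).symm.trans ((congrArg (fun φ => φ ≫ _) (homologyπ_mapHomologyIso S' (rm gj sj).push)).trans
        ((Category.assoc _ _ _).trans (congrArg (fun φ => _ ≫ φ) ((rm gj sj).push.map_comp _ _).symm)))
    exact congr($(congrArg (fun φ : K'.cycles q ⟶ (rm gj sj).push.obj (((rm gp sp).Rpush q).obj M) =>
      ((toAbS OY).map φ).hom.app (op W)) e) c)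
  · have e : HomologicalComplex.cyclesMap ψ q ≫ (S'.mapCyclesIso (rm gj sj).push).hom ≫
        (rm gj sj).push.map ((pcx gp sp M).iCycles q) = K'.iCycles q ≫ ψ.f q :=
      (congrArg (fun φ => HomologicalComplex.cyclesMap ψ q ≫ φ) (S'.mapCyclesIso_hom_iCycles (rm gj sj).push)).trans
        (HomologicalComplex.cyclesMap_i ψ q)
    refine (congr($(congrArg (fun φ : K'.cycles q ⟶ (rm gj sj).push.obj ((pcx gp sp M).X q) =>
      ((toAbS OY).map φ).hom.app (op W)) e) c)).trans ?_
    exact hc

include hpre in
/-- **The square of edge maps, on classes.** -/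
theorem exists_edge (M : ModSite.Mod OZ)
    (hβ : ∀ (N : ModSite.Mod OZ) (W : Opens Y) (s : N.val.presheaf.obj (op (pre gi (pre gf W)))),
      (β.hom.app N).val.app (op W) s = N.val.presheaf.map (homOfLE (hpre W).le).op s) :
    ∃ A : edgeD gi si q gf sf M ⟶ ((rm gf sf).Rpush q).obj ((rm gi si).push.obj M),
      ∀ (W : Opens Y) (x : HU ((toAbS OZ).obj M) q (pre gp (pre gj W))),
        ∃ d : ((toAbS OY).obj (edgeD gi si q gf sf M)).obj.obj (op W),
          ((toAbS OY).map A).hom.app (op W) d =
              theta gf sf q _ W (pushU gi si M q (pre gf W) (castU (hpre W) x)) ∧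
            ((toAbS OY).map (edgeB gi si q gf sf gp sp gj sj β M).hom).hom.app (op W) d =
              theta gp sp q M (pre gj W) x := by
  haveI := mono_kι gi si M
  obtain ⟨a, ha⟩ := exists_compare (C := ModSite.Mod OX) (kx gi si M) (kι gi si M) (kι_d gi si M) (exact_kι gi si M)
    (exact_kx gi si M) (injectiveResolution ((rm gi si).push.obj M))
  refine ⟨edgeA gi si q gf sf M a, fun W x => ?_⟩
  obtain ⟨z', rfl⟩ := (resOf M).cls_surjective (pre gp (pre gj W)) q x
  let s' : ((resOf M).K.X q).obj.obj (op (pre gp (pre gj W))) :=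
    (kernel.ι ((resOf M).K.d q (q + 1))).hom.app (op (pre gp (pre gj W))) z'
  let s : ((resOf M).K.X q).obj.obj (op (pre gi (pre gf W))) :=
    ((resOf M).K.X q).obj.map (homOfLE (hpre W).ge).op s'
  have hs : ((resOf M).K.d q (q + 1)).hom.app (op (pre gi (pre gf W))) s = 0 := by
    refine (congr($(((resOf M).K.d q (q + 1)).hom.naturality (homOfLE (hpre W).ge).op) s')).trans ?_
    refine (congrArg (((resOf M).K.X (q + 1)).obj.map (homOfLE (hpre W).ge).op) ?_).trans (map_zero _)
    exact congr($(congrArg (fun φ : (resOf M).Z q ⟶ (resOf M).K.X (q + 1) => φ.hom.app (op (pre gp (pre gj W))))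
      (kernel.condition ((resOf M).K.d q (q + 1)))) z')
  obtain ⟨z, hz⟩ := FRpushLib.exists_kernel_sec _ _ hs
  have hback : ((resOf M).K.X q).obj.map (homOfLE (hpre W).le).op s = s' := by
    refine (((resOf M).K.X q).obj.map_comp_apply _ _ s').symm.trans ?_
    exact (congr($(congrArg ((resOf M).K.X q).obj.map (Subsingleton.elim _ (𝟙 _))) s')).trans
      (congr($(((resOf M).K.X q).obj.map_id _) s'))
  have hcast : castU (hpre W) ((resOf M).cls (pre gp (pre gj W)) q z') = (resOf M).cls (pre gi (pre gf W)) q z :=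
    castU_cls (resOf M) q (hpre W) z z' (hback.symm.trans (congrArg _ hz.symm))
  obtain ⟨c, hc⟩ := exists_cycle_sec (((rm gf sf).push.mapHomologicalComplex _).obj (kx gi si M)) q W s hs
  refine ⟨_, (edgeA_sec gi si q gf sf M a ha W c z (hc.trans hz.symm)).trans
    (congrArg (fun y => theta gf sf q _ W (pushU gi si M q (pre gf W) y)) hcast.symm),
    edgeB_sec gi si q gf sf gp sp gj sj β M W c z' ?_⟩
  exact (congrArg _ hc).trans ((hβ ((injectiveResolution M).cocomplex.X q) W s).trans hback)

end FRpushCmplLib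

end
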