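import Groth.Agent.FRpushCmplLib.FinalBase

/-!
# The completion of a higher direct image is the higher direct image of the completion
-/

set_option autoImplicit false
set_option linter.style.haveILetI false
set_option linter.unusedSectionVars false
set_option maxHeartbeats 800000
set_option synthInstance.maxHeartbeats 80000

universe u

open CategoryTheory CategoryTheory.Limits AlgebraicGeometry TopologicalSpace Opposite FSch CategoryTheory.Abelian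
open FRpushLib (toAbS rm pre th rG rT prT theta)
open FModLib (MSec RSec oK LocPres unitSec sharpSec)
open QCohLib (HU)

noncomputable section

namespace FRpushCmplLib

/-- The chase giving surjectivity on a level. -/
theorem chase_surj {M B B' A A' U U' Hy : Type*} (pr : M → B) (pr' : M → B') (lamR : B' → B) (th₀ : A → B)
    (th₁ : A' → B') (cp : A → U) (cp' : A' → U') (τ : U' → U) (ev : Hy → U) (hh : Hy → M)
    (h2 : ∀ m, pr m = lamR (pr' m)) (hsurj : Function.Surjective th₁) (hc : ∀ z, ∃ y, ev y = τ z)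
    (hn : ∀ x, ∃ x₀, τ (cp' x) = cp x₀ ∧ lamR (th₁ x) = th₀ x₀)
    (hρ : ∀ y x, cp x = ev y → pr (hh y) = th₀ x) (m : M) : ∃ y, pr (hh y) = pr m := by
  obtain ⟨x', hx'⟩ := hsurj (pr' m)
  obtain ⟨y, hy⟩ := hc (cp' x')
  obtain ⟨x₀, h₀, h₀'⟩ := hn x'
  refine ⟨y, (hρ y x₀ (h₀.symm.trans hy.symm)).trans ?_⟩
  rw [← h₀', hx', ← h2]

variable {X Y : Scheme.{u}} [IsNoetherian X] [IsNoetherian Y] (f : X ⟶ Y) [IsProper f] (𝓘 : Y.IdealSheafData)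
  (𝓚 : X.IdealSheafData) (h𝓚 : 𝓚 = 𝓘.comap f) (hpc : PowCompat f 𝓚 𝓘)
  (hX : (completionAlong X 𝓚).IsFormal) (hY : (completionAlong Y 𝓘).IsFormal)
  [HasInjectiveResolutions X.Modules] [HasInjectiveResolutions (ModF (completionAlong X 𝓚) hX)]
  (F : X.Modules) (hF : Coh.IsCoh F) (n : ℕ)

variable (ρ : (toSchemeMor (completionAlong Y 𝓘) hY (completionToX Y 𝓘) (completionToX_comm Y 𝓘)).pull.obj
    ((Coh.Rpush f n).obj F) ⟶ cLim f 𝓘 𝓚 hpc hX hY F n)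

variable (hρ : RhoSpec f 𝓘 𝓚 hpc hX hY F n ρ) {W : Y.Opens} (hW : IsAffineOpen W)

/-- Classes moved along a map of levels, on the scheme. -/
def tauMap {k k' : ℕ} (lam : cL 𝓚 hX F k' ⟶ cL 𝓚 hX F k) (W : Y.Opens)
    (z : HU ((toAbS X.sheaf).obj (cQ 𝓚 hX F k')) n (pre f.base W)) :
    HU ((toAbS X.sheaf).obj (cQ 𝓚 hX F k)) n (pre f.base W) :=
  z.comp (Ext.mk₀ ((toAbS X.sheaf).map
    ((toSchemeMor (completionAlong X 𝓚) hX (completionToX X 𝓚) (completionToX_comm X 𝓚)).push.map lam))) (add_zero n)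

theorem exists_lam_push {k k' : ℕ} (lam : cL 𝓚 hX F k' ⟶ cL 𝓚 hX F k) (W : Y.Opens)
    (x : HU ((toAbS ((completionAlong X 𝓚).Osh hX)).obj (cL 𝓚 hX F k')) n
      (pre ((cφ f 𝓘 𝓚 hpc : Hom _ _).app 0).base (pre (completionToX Y 𝓘 0).base W))) :
    ∃ x₀, tauMap f 𝓚 hX F n lam W (cP f 𝓘 𝓚 hpc hX F n k' W x) = cP f 𝓘 𝓚 hpc hX F n k W x₀ ∧
      ((RpushF (cφ f 𝓘 𝓚 hpc) hX hY n).map lam).val.app (op (pre (completionToX Y 𝓘 0).base W))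
        (th (cφ f 𝓘 𝓚 hpc) (hlocX 𝓚 hX) hY n (cL 𝓚 hX F k') (pre (completionToX Y 𝓘 0).base W) x) =
      th (cφ f 𝓘 𝓚 hpc) (hlocX 𝓚 hX) hY n (cL 𝓚 hX F k) (pre (completionToX Y 𝓘 0).base W) x₀ :=
  ⟨x.comp (Ext.mk₀ ((toAbS ((completionAlong X 𝓚).Osh hX)).map lam)) (add_zero n),
    cP_natural f 𝓘 𝓚 hpc hX F n lam W x, th_natural_cL f 𝓘 𝓚 hpc hX hY F n lam W x⟩

include h𝓚 hF hρ hW in
/-- Every level is reached. -/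
theorem exists_cH_surj (k : ℕ) (m : MSec (cLim f 𝓘 𝓚 hpc hX hY F n) (pre (completionToX Y 𝓘 0).base W)) :
    ∃ x, cPr f 𝓘 𝓚 hpc hX hY F n k W (cH f 𝓘 𝓚 hpc hX hY F n ρ W x) = cPr f 𝓘 𝓚 hpc hX hY F n k W m := by
  haveI : Coh.IsQCoh F := hF.1
  haveI := preservesHomology_iX 𝓚 hX
  obtain ⟨c, hc⟩ := exists_ml f 𝓘 𝓚 h𝓚 hX F hF n hW
  obtain ⟨lam, h1, h2⟩ := exists_tau f 𝓘 𝓚 hpc hX hY F n W k c
  obtain ⟨y, hy⟩ := chase_surj (cPr f 𝓘 𝓚 hpc hX hY F n k W) (cPr f 𝓘 𝓚 hpc hX hY F n (k + c) W)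
    (((RpushF (cφ f 𝓘 𝓚 hpc) hX hY n).map lam).val.app (op (pre (completionToX Y 𝓘 0).base W)))
    (th (cφ f 𝓘 𝓚 hpc) (hlocX 𝓚 hX) hY n (cL 𝓚 hX F k) (pre (completionToX Y 𝓘 0).base W))
    (th (cφ f 𝓘 𝓚 hpc) (hlocX 𝓚 hX) hY n (cL 𝓚 hX F (k + c)) (pre (completionToX Y 𝓘 0).base W))
    (cP f 𝓘 𝓚 hpc hX F n k W) (cP f 𝓘 𝓚 hpc hX F n (k + c) W)
    (tauMap f 𝓚 hX F n lam W)
    (fun y => y.comp (Ext.mk₀ ((toAbS X.sheaf).map (cη 𝓚 hX F k))) (add_zero n))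
    (fun y => cH f 𝓘 𝓚 hpc hX hY F n ρ W (theta (OX := X.sheaf) (OY := Y.sheaf) f.base ⟨f.c⟩ n F W y))
    h2 (th_cL_bijective f 𝓘 𝓚 h𝓚 hpc hX hY F hF n hW (k + c)).2 (hc k _ h1)
    (exists_lam_push f 𝓘 𝓚 hpc hX hY F n lam W) (hρ W hW k) m
  exact ⟨_, hy⟩

include h𝓚 hF hρ in
/-- **The comparison is an isomorphism.** -/
theorem isIso_rho : IsIso ρ := by
  haveI : Coh.IsQCoh F := hF.1
  haveI := RpushLib.isQCoh_Rpush f F n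
  refine FCohLib.isIso_of_locPres ρ fun p => ?_
  obtain ⟨W, hW, hpW, -⟩ := Opens.isBasis_iff_nbhd.mp Y.isBasis_affineOpens (U := ⊤)
    (x := completionToX Y 𝓘 0 p) trivial
  haveI : IsNoetherianRing Γ(Y, W) := IsLocallyNoetherian.component_noetherian ⟨W, hW⟩
  haveI : IsProper (RpushLib.overW f hW) := by
    rw [RpushLib.overW]
    infer_instance
  haveI : Module.Finite Γ(Y, W) Γ((Coh.Rpush f n).obj F, W) :=
    RpushLib.finite_sections_rpush f F n hW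
      (AtlasCoh.finiteCoh_of_isProper (RpushLib.overW f hW) _ (CohGenLib.isCoh_restrict (f ⁻¹ᵁ W).ι hF))
  obtain ⟨ι, κ, _, _, e, r, he, hrel, hr⟩ := exists_gen_rel_module Γ(Y, W) Γ((Coh.Rpush f n).obj F, W)
  have hP := FCohLib.locPres_of_span ((Coh.Rpush f n).obj F) hW e r hrel he hr
  refine ⟨pre (completionToX Y 𝓘 0).base W, ι, κ, inferInstance, inferInstance, _, _, hpW,
    FCohLib.locPres_pullSec (completionToX Y 𝓘 0).base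
      (schSharp (completionAlong Y 𝓘) hY (completionToX Y 𝓘) (completionToX_comm Y 𝓘)) hP, ?_⟩
  have hφ := isProperHom_cφ f 𝓘 𝓚 h𝓚 hpc
  have h𝔉 := isCohF_cF 𝓚 hX F hF
  obtain ⟨I, -, hI, -, d, hd⟩ := FRpushLib.finite_and_bound_sec (hlocY 𝓘 hY) (isAffine_pre 𝓘 hW) (cφ f 𝓘 𝓚 hpc)
    (hlocX 𝓚 hX) hφ (cF 𝓚 hX F) h𝔉 n
  obtain ⟨c₀, hker⟩ := exists_cH_ker f 𝓘 𝓚 h𝓚 hpc hX hY F hF n ρ hρ hW
  exact locPres_completion (hlocY 𝓘 hY) (rT (cφ f 𝓘 𝓚 hpc) (hlocX 𝓚 hX) hY (cF 𝓚 hX F) n)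
    (fun k => FRpushLib.exists_levelIso (h𝔜 := hlocY 𝓘 hY) n hφ h𝔉 k) (isAffine_pre 𝓘 hW)
    (FRpushLib.stable_secT (h𝔜 := hlocY 𝓘 hY) n hφ h𝔉 (isAffine_pre 𝓘 hW)) hI hd (𝓘.ideal ⟨W, hW⟩)
    (cS Y 𝓘 hY W) (cS_surjective Y 𝓘 hY hW) (cS_kernel Y 𝓘 hY hW) (cH f 𝓘 𝓚 hpc hX hY F n ρ W)
    (cH_smul f 𝓘 𝓚 hpc hX hY F n ρ W) hker (exists_cH_surj f 𝓘 𝓚 h𝓚 hpc hX hY F hF n ρ hρ hW) e he r hrel hr

omit ρ hρ hW in
include h𝓚 hF in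
/-- **Completion commutes with higher direct images.** -/
theorem nonempty_iso_completion :
    Nonempty ((toSchemeMor (completionAlong Y 𝓘) hY (completionToX Y 𝓘) (completionToX_comm Y 𝓘)).pull.obj
        ((Coh.Rpush f n).obj F) ≅
      (RpushF (cφ f 𝓘 𝓚 hpc) hX hY n).obj (cF 𝓚 hX F)) := by
  obtain ⟨ρ, hρ⟩ := exists_rho f 𝓘 𝓚 h𝓚 hpc hX hY F hF n
  haveI := isIso_rho f 𝓘 𝓚 h𝓚 hpc hX hY F hF n ρ hρ
  have hφ := isProperHom_cφ f 𝓘 𝓚 h𝓚 hpc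
  have h𝔉 := isCohF_cF 𝓚 hX F hF
  obtain ⟨θ, -⟩ := FRpushLib.exists_iso_limit (φ := cφ f 𝓘 𝓚 hpc) (hloc := hlocX 𝓚 hX) (h𝔜 := hY) (q := n) h𝔉
    (FRpushLib.levAc (hlocX 𝓚 hX) (hlocY 𝓘 hY) hφ (cF 𝓚 hX F) h𝔉)
    (FRpushLib.levStable (cφ f 𝓘 𝓚 hpc) (hlocX 𝓚 hX) (hlocY 𝓘 hY) hφ (cF 𝓚 hX F) h𝔉)
  exact ⟨asIso ρ ≪≫ θ.symm⟩

end FRpushCmplLib

end
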