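import Groth.Agent.FRpushLib.Theta

/-!
# Homology under exact functors, comparisons of resolutions, classes on sections
-/

set_option autoImplicit false
set_option linter.style.haveILetI false
set_option linter.unusedSectionVars false
set_option maxHeartbeats 800000
set_option synthInstance.maxHeartbeats 80000

universe u

open CategoryTheory CategoryTheory.Limits TopologicalSpace Opposite CategoryTheory.Abelian
open QCohLib (AbSh HU)
open FRpushLib (toAbS Res rm pre pushK psi resOf toCycle piOf theta app_injective)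

noncomputable section

namespace FRpushCmplLib

/-- Homology classes under a functor preserving homology. -/
theorem homologyπ_mapHomologyIso {C D : Type*} [Category* C] [Category* D] [Abelian C] [Abelian D] (S : ShortComplex C)
    (F : C ⥤ D) [F.Additive] [F.PreservesHomology] :
    (S.map F).homologyπ ≫ (S.mapHomologyIso F).hom = (S.mapCyclesIso F).hom ≫ F.map S.homologyπ := by
  have h1 := S.leftHomologyData.homologyπ_comp_homologyIso_hom
  have h2 := (S.leftHomologyData.map F).homologyπ_comp_homologyIso_hom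
  have h3 : S.homologyπ = S.leftHomologyData.cyclesIso.hom ≫ S.leftHomologyData.π ≫ S.leftHomologyData.homologyIso.inv := by
    rw [← Category.assoc, ← h1, Category.assoc, Iso.hom_inv_id, Category.comp_id]
  rw [S.leftHomologyData.mapHomologyIso_eq F, S.leftHomologyData.mapCyclesIso_eq F, h3]
  simp only [Iso.trans_hom, Functor.mapIso_hom, Iso.symm_hom, Functor.map_comp, Category.assoc]
  rw [reassoc_of% h2]
  refine congrArg (fun φ => _ ≫ φ) ?_
  exact (F.map_comp S.leftHomologyData.π S.leftHomologyData.homologyIso.inv).symm.trans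
    ((congrArg F.map (Iso.inv_hom_id_assoc S.leftHomologyData.cyclesIso _).symm).trans
      ((F.map_comp _ _).trans (congrArg (fun φ => _ ≫ φ) ((F.map_comp _ _).trans (congrArg (fun φ => _ ≫ φ) (F.map_comp _ _))))))

section Compare

variable {C : Type*} [Category* C] [Abelian C]

/-- A comparison from an exact augmented complex to an injective resolution. -/
theorem exists_compare {Z : C} (K : CochainComplex C ℕ) (ι : Z ⟶ K.X 0) [Mono ι] (hι : ι ≫ K.d 0 1 = 0)
    (h₀ : (ShortComplex.mk ι (K.d 0 1) hι).Exact)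
    (h : ∀ n, (ShortComplex.mk (K.d n (n + 1)) (K.d (n + 1) (n + 2)) (K.d_comp_d _ _ _)).Exact)
    (I : InjectiveResolution Z) : ∃ a : K ⟶ I.cocomplex, ι ≫ a.f 0 = I.ι.f 0 := by
  let f0 : K.X 0 ⟶ I.cocomplex.X 0 := Injective.factorThru (show Z ⟶ I.cocomplex.X 0 from I.ι.f 0) ι
  have hf0 : ι ≫ f0 = I.ι.f 0 := Injective.comp_factorThru _ _
  have w0 : ι ≫ f0 ≫ I.cocomplex.d 0 1 = 0 := by
    rw [reassoc_of% hf0]
    exact I.ι_f_zero_comp_complex_d
  let f1 : K.X 1 ⟶ I.cocomplex.X 1 := h₀.descToInjective (f0 ≫ I.cocomplex.d 0 1) w0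
  have hf1 : K.d 0 1 ≫ f1 = f0 ≫ I.cocomplex.d 0 1 := h₀.comp_descToInjective _ _
  refine ⟨CochainComplex.mkHom _ _ f0 f1 hf1.symm fun n ⟨g, g', w⟩ =>
    ⟨(h n).descToInjective (g' ≫ I.cocomplex.d (n + 1) (n + 2)) ?_, ((h n).comp_descToInjective _ _).symm⟩, hf0⟩
  dsimp
  rw [← Category.assoc, ← w, Category.assoc, HomologicalComplex.d_comp_d, comp_zero]

end Compare

/-- Transport of classes along an equality of opens. -/
def castU {X : TopCat.{u}} {G : AbSh X} {q : ℕ} {U U' : Opens X} (e : U' = U) : HU G q U' →+ HU G q U := by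
  subst e
  exact AddMonoidHom.id _

theorem castU_bijective {X : TopCat.{u}} {G : AbSh X} {q : ℕ} {U U' : Opens X} (e : U' = U) :
    Function.Bijective (castU (G := G) (q := q) e) := by
  subst e
  exact Function.bijective_id

theorem castU_comp {X : TopCat.{u}} {G G' : AbSh X} {q : ℕ} {U U' : Opens X} (e : U' = U) (x : HU G q U') (φ : G ⟶ G') :
    castU e (x.comp (Ext.mk₀ φ) (add_zero q)) = (castU e x).comp (Ext.mk₀ φ) (add_zero q) := by
  subst e
  rfl

theorem castU_cls {X : TopCat.{u}} {F : AbSh X} (R : Res F) (n : ℕ) {U U' : Opens X} (e : U' = U)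
    (z : (R.Z n).obj.obj (op U)) (z' : (R.Z n).obj.obj (op U'))
    (h : (kernel.ι (R.K.d n (n + 1))).hom.app (op U') z' =
      (R.K.X n).obj.map (homOfLE e.le).op ((kernel.ι (R.K.d n (n + 1))).hom.app (op U) z)) :
    castU e (R.cls U' n z') = R.cls U n z := by
  subst e
  refine congrArg (R.cls U' n) (app_injective (kernel.ι (R.K.d n (n + 1))) U' (h.trans ?_))
  exact congr($((R.K.X n).obj.map_id (op U')) _)

variable {X : TopCat.{u}} {OX : Sheaf (Opens.grothendieckTopology X) CommRingCat.{u}}
  {Y : TopCat.{u}} {OY : Sheaf (Opens.grothendieckTopology Y) CommRingCat.{u}} (g : X ⟶ Y)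
  (s : OY ⟶ ((Opens.map g).sheafPushforwardContinuous CommRingCat.{u} (Opens.grothendieckTopology Y)
    (Opens.grothendieckTopology X)).obj OX) [HasInjectiveResolutions (ModSite.Mod OX)] (q : ℕ)

/-- The direct image of the chosen resolution, as modules. -/
abbrev pcx (M : ModSite.Mod OX) : CochainComplex (ModSite.Mod OY) ℕ :=
  ((rm g s).push.mapHomologicalComplex _).obj (injectiveResolution M).cocomplex

/-- The section classes of cycles of modules. -/
theorem piOf_eq (M : ModSite.Mod OX) (W : Opens Y) (c : ((toAbS OY).obj ((pcx g s M).cycles q)).obj.obj (op W))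
    (z : ((resOf M).Z q).obj.obj (op (pre g W)))
    (hc : ((toAbS OY).map ((pcx g s M).iCycles q)).hom.app (op W) c =
      (show ((pushK g s M).X q).obj.obj (op W) from
        (kernel.ι ((resOf M).K.d q (q + 1))).hom.app (op (pre g W)) z)) :
    piOf g s q M W z =
      ((toAbS OY).map ((pcx g s M).homologyπ q ≫
        ((injectiveResolution M).isoRightDerivedObj (rm g s).push q).inv)).hom.app (op W) c := by
  let S := (pcx g s M).sc q
  let c' : ((pushK g s M).cycles q).obj.obj (op W) := (S.mapCyclesIso (toAbS OY)).inv.hom.app (op W) c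
  have h1 : toCycle g s q M W z = c' := by
    refine app_injective ((pushK g s M).iCycles q) W ((FRpushLib.iCycles_toCycle g s q M W z).trans (hc.symm.trans ?_))
    have e : (S.mapCyclesIso (toAbS OY)).inv ≫ (S.map (toAbS OY)).iCycles = (toAbS OY).map S.iCycles :=
      (Iso.inv_comp_eq _).2 (S.mapCyclesIso_hom_iCycles (toAbS OY)).symm
    exact congr($(congrArg (fun φ : (toAbS OY).obj S.cycles ⟶ (S.map (toAbS OY)).X₂ => φ.hom.app (op W)) e.symm) c)
  refine (congrArg (((pushK g s M).homologyπ q ≫ (psi g s q M).hom).hom.app (op W)) h1).trans ?_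
  have e : (S.mapCyclesIso (toAbS OY)).inv ≫ (S.map (toAbS OY)).homologyπ ≫ (psi g s q M).hom =
      (toAbS OY).map ((pcx g s M).homologyπ q ≫
        ((injectiveResolution M).isoRightDerivedObj (rm g s).push q).inv) := by
    rw [Iso.inv_comp_eq, Functor.map_comp]
    refine ((Category.assoc _ _ _).symm.trans ?_).trans (Category.assoc _ _ _)
    exact congrArg (fun φ => φ ≫ (toAbS OY).map ((injectiveResolution M).isoRightDerivedObj (rm g s).push q).inv)
      (homologyπ_mapHomologyIso S (toAbS OY))
  exact congr($(congrArg (fun φ : (toAbS OY).obj S.cycles ⟶ (toAbS OY).obj (((rm g s).Rpush q).obj M) => φ.hom.app (op W)) e) c)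

end FRpushCmplLib

end
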