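import Groth.Agent.FRpushCmplLib.Edge
import Groth.Agent.FRpushLib.Lim
import Groth.Agent.FCohLib.PushCompl

/-!
# Comparison maps in a square of ringed spaces
-/

set_option autoImplicit false
set_option linter.style.haveILetI false
set_option linter.unusedSectionVars false
set_option maxHeartbeats 800000
set_option synthInstance.maxHeartbeats 80000

universe u

open CategoryTheory CategoryTheory.Limits TopologicalSpace Opposite CategoryTheory.Abelian
open FRpushLib (toAbS rm pre theta)
open QCohLib (HU)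

noncomputable section

namespace FRpushCmplLib

/-- Maps to a module agreeing on sections over a basis agree. -/
theorem hom_ext_basis {Y : TopCat.{u}} {O : Sheaf (Opens.grothendieckTopology Y) CommRingCat.{u}}
    {M N : ModSite.Mod O} (a b : M ⟶ N) {B : Set (Opens Y)} (hB : Opens.IsBasis B)
    (h : ∀ V ∈ B, ∀ s, a.val.app (op V) s = b.val.app (op V) s) : a = b := by
  refine SheafOfModules.hom_ext (PresheafOfModules.hom_ext fun U => ModuleCat.hom_ext (LinearMap.ext fun σ => ?_))
  refine sub_eq_zero.1 (FCohLib.eq_zero_of_points N (V := U.unop) _ fun p hp => ?_)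
  obtain ⟨V, hV, hpV, hVU⟩ := Opens.isBasis_iff_nbhd.mp hB hp
  refine ⟨V, hVU, hpV, (map_sub (N.val.map (homOfLE hVU).op).hom _ _).trans (sub_eq_zero.2 ?_)⟩
  exact (PresheafOfModules.naturality_apply a.val (homOfLE hVU).op σ).symm.trans
    ((h V hV _).trans (PresheafOfModules.naturality_apply b.val (homOfLE hVU).op σ))

variable {Z X : TopCat.{u}} {OZ : Sheaf (Opens.grothendieckTopology Z) CommRingCat.{u}}
  {OX : Sheaf (Opens.grothendieckTopology X) CommRingCat.{u}} (gi : Z ⟶ X)
  (si : OX ⟶ ((Opens.map gi).sheafPushforwardContinuous CommRingCat.{u} (Opens.grothendieckTopology X)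
    (Opens.grothendieckTopology Z)).obj OZ)
  [(rm gi si).push.PreservesHomology] [HasInjectiveResolutions (ModSite.Mod OZ)]
  (q : ℕ) {Y₀ Y : TopCat.{u}} {O₀ : Sheaf (Opens.grothendieckTopology Y₀) CommRingCat.{u}}
  {OY : Sheaf (Opens.grothendieckTopology Y) CommRingCat.{u}} (gf : X ⟶ Y)
  (sf : OY ⟶ ((Opens.map gf).sheafPushforwardContinuous CommRingCat.{u} (Opens.grothendieckTopology Y)
    (Opens.grothendieckTopology X)).obj OX) (gp : Z ⟶ Y₀)
  (sp : O₀ ⟶ ((Opens.map gp).sheafPushforwardContinuous CommRingCat.{u} (Opens.grothendieckTopology Y₀)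
    (Opens.grothendieckTopology Z)).obj OZ) (gj : Y₀ ⟶ Y)
  (sj : OY ⟶ ((Opens.map gj).sheafPushforwardContinuous CommRingCat.{u} (Opens.grothendieckTopology Y)
    (Opens.grothendieckTopology Y₀)).obj O₀)
  [(rm gj sj).push.PreservesHomology] [HasInjectiveResolutions (ModSite.Mod OX)]
  (β : (rm gi si).push ⋙ (rm gf sf).push ≅ (rm gp sp).push ⋙ (rm gj sj).push)
  (hpre : ∀ W : Opens Y, pre gp (pre gj W) = pre gi (pre gf W))

/-- Cohomology on the small space as cohomology of the direct image. -/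
def sqP (M : ModSite.Mod OZ) (W : Opens Y) :
    HU ((toAbS OZ).obj M) q (pre gp (pre gj W)) →+ HU ((toAbS OX).obj ((rm gi si).push.obj M)) q (pre gf W) :=
  (pushU gi si M q (pre gf W)).comp (castU (hpre W))

theorem sqP_bijective (M : ModSite.Mod OZ) (W : Opens Y) : Function.Bijective (sqP gi si q gf gp gj hpre M W) :=
  (pushU_bijective gi si M q (pre gf W)).comp (castU_bijective (hpre W))

theorem sqP_natural {M N : ModSite.Mod OZ} (a : M ⟶ N) (W : Opens Y)
    (x : HU ((toAbS OZ).obj M) q (pre gp (pre gj W))) :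
    (sqP gi si q gf gp gj hpre M W x).comp (Ext.mk₀ ((toAbS OX).map ((rm gi si).push.map a))) (add_zero q) =
      sqP gi si q gf gp gj hpre N W (x.comp (Ext.mk₀ ((toAbS OZ).map a)) (add_zero q)) :=
  (pushU_natural gi si q (pre gf W) a _).trans
    (congrArg (pushU gi si N q (pre gf W)) (castU_comp (hpre W) x ((toAbS OZ).map a)).symm)

variable (hβ : ∀ (N : ModSite.Mod OZ) (W : Opens Y) (s : N.val.presheaf.obj (op (pre gi (pre gf W)))),
  (β.hom.app N).val.app (op W) s = N.val.presheaf.map (homOfLE (hpre W).le).op s)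
  (F : ModSite.Mod OX) {Bs : Set (Opens Y)} (hBs : Opens.IsBasis Bs)

include β hβ hBs in
/-- The comparison for one module, with its values on classes. -/
theorem exists_sqPsi (M : ModSite.Mod OZ) (η : F ⟶ (rm gi si).push.obj M)
    (hθi : ∀ W ∈ Bs, Function.Bijective (theta gf sf q ((rm gi si).push.obj M) W))
    (hθp : ∀ W ∈ Bs, Function.Bijective (theta gp sp q M (pre gj W))) :
    ∃ ψ : ((rm gf sf).Rpush q).obj F ⟶ (rm gj sj).push.obj (((rm gp sp).Rpush q).obj M),
      ∀ W ∈ Bs, ∀ (y : HU ((toAbS OX).obj F) q (pre gf W)) (x : HU ((toAbS OZ).obj M) q (pre gp (pre gj W))),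
        sqP gi si q gf gp gj hpre M W x = y.comp (Ext.mk₀ ((toAbS OX).map η)) (add_zero q) →
        ψ.val.app (op W) (theta gf sf q F W y) = theta gp sp q M (pre gj W) x := by
  obtain ⟨A, hA⟩ := exists_edge gi si q gf sf gp sp gj sj β hpre M hβ
  let B := edgeB gi si q gf sf gp sp gj sj β M
  have hBi : ∀ (W : Opens Y) d d', B.hom.val.app (op W) d = B.hom.val.app (op W) d' → d = d' := fun W d d' hd => by
    have e : ∀ z, B.inv.val.app (op W) (B.hom.val.app (op W) z) = z := fun z =>
      congr($(congrArg (fun a : edgeD gi si q gf sf M ⟶ edgeD gi si q gf sf M => a.val.app (op W)) B.hom_inv_id) z)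
    exact (e d).symm.trans ((congrArg _ hd).trans (e d'))
  haveI : IsIso A := FCohLib.isIso_of_bijective_basis A fun U p hp => by
    obtain ⟨W, hW, hpW, hWU⟩ := Opens.isBasis_iff_nbhd.mp hBs hp
    refine ⟨W, hWU, hpW, (injective_iff_map_eq_zero _).2 fun d hd => ?_, fun σ => ?_⟩
    · obtain ⟨x, hx⟩ := (hθp W hW).2 (B.hom.val.app (op W) d)
      obtain ⟨d', h1, h2⟩ := hA W x
      obtain rfl : d = d' := hBi W d d' (hx.symm.trans h2.symm)
      have h4 : x = 0 := (sqP_bijective gi si q gf gp gj hpre M W).1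
        (((hθi W hW).1 ((h1.symm.trans hd).trans (map_zero _).symm)).trans (map_zero (sqP gi si q gf gp gj hpre M W)).symm)
      refine hBi W d 0 (h2.trans ?_)
      rw [h4]
      exact (map_zero _).trans (map_zero (B.hom.val.app (op W)).hom).symm
    · obtain ⟨z, hz⟩ := (hθi W hW).2 σ
      obtain ⟨x, rfl⟩ := (sqP_bijective gi si q gf gp gj hpre M W).2 z
      obtain ⟨d, h1, -⟩ := hA W x
      exact ⟨d, h1.trans hz⟩
  refine ⟨((rm gf sf).Rpush q).map η ≫ inv A ≫ B.hom, fun W hW y x hxy => ?_⟩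
  obtain ⟨d, h1, h2⟩ := hA W x
  have h3 : (((rm gf sf).Rpush q).map η).val.app (op W) (theta gf sf q F W y) = A.val.app (op W) d :=
    (FRpushLib.theta_natural gf sf q F W η y).trans
      ((congrArg (theta gf sf q ((rm gi si).push.obj M) W) hxy.symm).trans h1.symm)
  have h4 : (inv A).val.app (op W) (A.val.app (op W) d) = d :=
    congr($(congrArg (fun a : edgeD gi si q gf sf M ⟶ edgeD gi si q gf sf M => a.val.app (op W)) (IsIso.hom_inv_id A)) d)
  exact (congrArg (fun z => B.hom.val.app (op W) ((inv A).val.app (op W) z)) h3).trans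
    ((congrArg (B.hom.val.app (op W)) h4).trans h2)

include β hβ hBs in
/-- **The comparison with a limit, with its values on classes.** -/
theorem exists_sqRho (M : ℕ → ModSite.Mod OZ) (t : ∀ k, M (k + 1) ⟶ M k)
    (η : ∀ k, F ⟶ (rm gi si).push.obj (M k)) (hη : ∀ k, η (k + 1) ≫ (rm gi si).push.map (t k) = η k)
    (hθF : ∀ W ∈ Bs, Function.Bijective (theta gf sf q F W))
    (hθi : ∀ k, ∀ W ∈ Bs, Function.Bijective (theta gf sf q ((rm gi si).push.obj (M k)) W))
    (hθp : ∀ k, ∀ W ∈ Bs, Function.Bijective (theta gp sp q (M k) (pre gj W))) :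
    ∃ ρ : (rm gj sj).pull.obj (((rm gf sf).Rpush q).obj F) ⟶
        limit (Functor.ofOpSequence (X := fun k => ((rm gp sp).Rpush q).obj (M k))
          (fun k => ((rm gp sp).Rpush q).map (t k))),
      ∀ W ∈ Bs, ∀ (k : ℕ) (y : HU ((toAbS OX).obj F) q (pre gf W))
        (x : HU ((toAbS OZ).obj (M k)) q (pre gp (pre gj W))),
        sqP gi si q gf gp gj hpre (M k) W x = y.comp (Ext.mk₀ ((toAbS OX).map (η k))) (add_zero q) →
        (limit.π (Functor.ofOpSequence (X := fun k => ((rm gp sp).Rpush q).obj (M k))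
            (fun k => ((rm gp sp).Rpush q).map (t k))) (op k)).val.app (op (pre gj W))
          (ρ.val.app (op (pre gj W))
            (((rm gj sj).adj.unit.app (((rm gf sf).Rpush q).obj F)).val.app (op W) (theta gf sf q F W y))) =
          theta gp sp q (M k) (pre gj W) x := by
  choose ψ hψ using fun k => exists_sqPsi gi si q gf sf gp sp gj sj β hpre hβ F hBs (M k) (η k) (hθi k) (hθp k)
  let G : ℕ → ModSite.Mod O₀ := fun k => ((rm gp sp).Rpush q).obj (M k)
  let T : ∀ k, G (k + 1) ⟶ G k := fun k => ((rm gp sp).Rpush q).map (t k)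
  have hc : ∀ k, ψ (k + 1) ≫ (rm gj sj).push.map (T k) = ψ k := fun k => by
    refine hom_ext_basis _ _ hBs fun W hW σ => ?_
    obtain ⟨y, rfl⟩ := (hθF W hW).2 σ
    obtain ⟨x, hx⟩ := (sqP_bijective gi si q gf gp gj hpre (M (k + 1)) W).2
      (y.comp (Ext.mk₀ ((toAbS OX).map (η (k + 1)))) (add_zero q))
    refine (congrArg ((T k).val.app (op (pre gj W))) (hψ (k + 1) W hW y x hx)).trans ?_
    refine (FRpushLib.theta_natural gp sp q (M (k + 1)) (pre gj W) (t k) x).trans (hψ k W hW y _ ?_).symm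
    refine (sqP_natural gi si q gf gp gj hpre (t k) W x).symm.trans ((congrArg (fun z => Ext.comp z _ (add_zero q)) hx).trans ?_)
    rw [Ext.comp_assoc_of_second_deg_zero, Ext.mk₀_comp_mk₀]
    exact congrArg (fun z => Ext.comp y (Ext.mk₀ z) (add_zero q))
      (((toAbS OX).map_comp _ _).symm.trans (congrArg (toAbS OX).map (hη k)))
  let c : Cone (Functor.ofOpSequence (X := G) T) :=
    { pt := (rm gj sj).pull.obj (((rm gf sf).Rpush q).obj F)
      π := NatTrans.ofOpSequence (fun k => ((rm gj sj).adj.homEquiv _ _).symm (ψ k)) fun k => by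
        rw [Functor.ofOpSequence_map_homOfLE_succ]
        exact (Category.id_comp _).trans ((congrArg ((rm gj sj).adj.homEquiv _ _).symm (hc k).symm).trans
          ((rm gj sj).adj.homEquiv_naturality_right_symm _ _)) }
  refine ⟨limit.lift _ c, fun W hW k y x hxy => ?_⟩
  have h1 : (rm gj sj).adj.unit.app (((rm gf sf).Rpush q).obj F) ≫
      (rm gj sj).push.map (limit.lift _ c ≫ limit.π (Functor.ofOpSequence (X := G) T) (op k)) = ψ k :=
    (congrArg (fun a => (rm gj sj).adj.unit.app (((rm gf sf).Rpush q).obj F) ≫ (rm gj sj).push.map a)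
      (limit.lift_π c (op k))).trans
      (((rm gj sj).adj.homEquiv_unit _ _ _).symm.trans (Equiv.apply_symm_apply _ _))
  exact (congr($(congrArg (fun a : ((rm gf sf).Rpush q).obj F ⟶ (rm gj sj).push.obj (G k) => a.val.app (op W)) h1) _)).trans
    (hψ k W hW y x hxy)

end FRpushCmplLib

end
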